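import Mathlib
import Cfsg.Prelude.Def_Transfer
import Cfsg.Agent.Lib.Thompson.Cores

/-!
Basic lemmas for finite groups with cyclic Sylow `p`-subgroups all of whose `p'`-subgroups
are abelian.
-/

set_option autoImplicit false

namespace Cfsg.Agent.H40.CyclicAbelian

open Subgroup

universe u

variable {G : Type u} [Group G]

/-- Cyclic `p`-subgroups and abelian `p'`-subgroups. -/
structure Hyp (p : ℕ) (G : Type u) [Group G] : Prop where
  cyc : ∀ Q : Subgroup G, IsPGroup p Q → IsCyclic Q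
  ab : ∀ H : Subgroup G, ¬ p ∣ Nat.card H → ∀ a ∈ H, ∀ b ∈ H, a * b = b * a

/-- The conclusion: a normal `p`-complement or normal Sylow `p`-subgroups. -/
def Concl (p : ℕ) (G : Type u) [Group G] : Prop :=
  Cfsg.HasNormalPComplement p G ∨ ∀ P : Sylow p G, (P : Subgroup G).Normal

variable {p : ℕ}

theorem Hyp.subgroup (h : Hyp p G) (M : Subgroup G) : Hyp p M where
  cyc Q hQ := by
    haveI := h.cyc (Q.map M.subtype) (hQ.map M.subtype)
    exact isCyclic_of_surjective
      (Q.equivMapOfInjective M.subtype M.subtype_injective).symm.toMonoidHom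
      (MulEquiv.surjective _)
  ab H hH a ha b hb := by
    have hc : Nat.card (H.map M.subtype) = Nat.card H :=
      card_map_of_injective M.subtype_injective
    exact Subtype.ext (h.ab _ (hc ▸ hH) _ (mem_map_of_mem _ ha) _ (mem_map_of_mem _ hb))

section Finite

variable [Finite G]

theorem card_comap_mk' (K : Subgroup G) [K.Normal] (S : Subgroup (G ⧸ K)) :
    Nat.card (S.comap (QuotientGroup.mk' K)) = Nat.card K * Nat.card S := by
  have h1 := Subgroup.card_mul_index (S.comap (QuotientGroup.mk' K))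
  rw [Subgroup.index_comap_of_surjective _ (QuotientGroup.mk'_surjective K)] at h1
  have h2 := Subgroup.card_mul_index S
  have h3 : Nat.card G = Nat.card (G ⧸ K) * Nat.card K := K.card_eq_card_quotient_mul_card_subgroup
  have hpos : 0 < S.index := Nat.pos_of_ne_zero Subgroup.index_ne_zero_of_finite
  apply Nat.eq_of_mul_eq_mul_right hpos
  rw [h1, h3, ← h2]; ring

variable [hp : Fact p.Prime]

theorem not_dvd_mul {a b : ℕ} (ha : ¬ p ∣ a) (hb : ¬ p ∣ b) : ¬ p ∣ a * b :=
  fun h => (hp.out.dvd_mul.mp h).elim ha hb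

theorem Hyp.quotient (h : Hyp p G) (K : Subgroup G) [K.Normal] (hK : ¬ p ∣ Nat.card K) :
    Hyp p (G ⧸ K) where
  cyc Q hQ := by
    obtain ⟨T, hT⟩ := hQ.exists_le_sylow
    obtain ⟨S, rfl⟩ := Sylow.mapSurjective_surjective (QuotientGroup.mk'_surjective K) p T
    haveI := h.cyc (S : Subgroup G) S.isPGroup'
    haveI : IsCyclic ((S : Subgroup G).map (QuotientGroup.mk' K)) :=
      isCyclic_of_surjective ((QuotientGroup.mk' K).subgroupMap (S : Subgroup G))
        (MonoidHom.subgroupMap_surjective _ _)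
    rw [Sylow.coe_mapSurjective] at hT
    exact Subgroup.isCyclic_of_le hT
  ab H hH a ha b hb := by
    obtain ⟨x, rfl⟩ := QuotientGroup.mk'_surjective K a
    obtain ⟨y, rfl⟩ := QuotientGroup.mk'_surjective K b
    have h1 : ¬ p ∣ Nat.card (H.comap (QuotientGroup.mk' K)) :=
      card_comap_mk' K H ▸ not_dvd_mul hK hH
    rw [← map_mul, ← map_mul, h.ab _ h1 x ha y hb]

theorem not_dvd_of_mem {H : Subgroup G} (hH : ¬ p ∣ Nat.card H) {g : G} (hg : g ∈ H) :
    ¬ p ∣ orderOf g := fun h => hH (h.trans (orderOf_dvd_natCard H hg))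

omit [Finite G] in
theorem isPGroup_zpowers {a : G} {k : ℕ} (ha : orderOf a = p ^ k) : IsPGroup p (zpowers a) :=
  IsPGroup.of_card (n := k) (by rw [Nat.card_zpowers, ha])

theorem exists_orderOf_eq_pow {P : Subgroup G} (hP : IsPGroup p P) {a : G} (ha : a ∈ P) :
    ∃ k, orderOf a = p ^ k := by
  obtain ⟨k, hk⟩ := IsPGroup.iff_orderOf.mp hP ⟨a, ha⟩
  exact ⟨k, by rw [← hk, Subgroup.orderOf_mk]⟩

theorem eq_one_of_pow {a : G} {k : ℕ} (ha : orderOf a = p ^ k) {n : ℕ} (hn : ¬ p ∣ n)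
    (h : a ^ n = 1) : a = 1 := by
  rw [← orderOf_eq_one_iff, ha]
  exact Nat.eq_one_of_dvd_coprimes
    ((hp.out.coprime_iff_not_dvd.mpr hn).pow_left k) dvd_rfl (ha ▸ orderOf_dvd_of_pow_eq_one h)

/-- A `p`-element of a `p'`-group is trivial. -/
theorem eq_one_of_pelt {H : Subgroup G} (hH : ¬ p ∣ Nat.card H) {a : G} (ha : a ∈ H) {k : ℕ}
    (hk : orderOf a = p ^ k) : a = 1 :=
  eq_one_of_pow hk hH (by
    have := pow_card_eq_one' (x := (⟨a, ha⟩ : H))
    exact congrArg Subtype.val this)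

/-- An element is in a subgroup as soon as its `p`-part and `p'`-part powers are. -/
theorem mem_of_parts (S : Subgroup G) (g : G)
    (h : ∀ m : ℕ, ((∃ k, orderOf (g ^ m) = p ^ k) ∨ ¬ p ∣ orderOf (g ^ m)) → g ^ m ∈ S) :
    g ∈ S := by
  set N := orderOf g with hN
  have hN0 : N ≠ 0 := (orderOf_pos g).ne'
  obtain ⟨k, m, hm, hNm⟩ := Nat.exists_eq_pow_mul_and_not_dvd hN0 p hp.out.ne_one
  have hm0 : m ≠ 0 := fun h => hm (h ▸ dvd_zero p)
  have h1 : g ^ m ∈ S := h m (Or.inl ⟨k, by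
    rw [orderOf_pow' g hm0, ← hN, hNm, Nat.gcd_mul_left_left, Nat.mul_div_cancel _
      (Nat.pos_of_ne_zero hm0)]⟩)
  have h2 : g ^ (p ^ k) ∈ S := h _ (Or.inr (by
    rw [orderOf_pow' g (pow_ne_zero _ hp.out.ne_zero), ← hN, hNm, Nat.gcd_mul_right_left,
      Nat.mul_div_cancel_left _ (pow_pos hp.out.pos _)]
    exact hm))
  have hco : Nat.Coprime (p ^ k) m := (hp.out.coprime_iff_not_dvd.mpr hm).pow_left k
  have hb := Nat.gcd_eq_gcd_ab (p ^ k) m
  rw [hco.gcd_eq_one] at hb
  have h3 : g = (g ^ (p ^ k)) ^ (Nat.gcdA (p ^ k) m) * (g ^ m) ^ (Nat.gcdB (p ^ k) m) := by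
    rw [← zpow_natCast g (p ^ k), ← zpow_natCast g m, ← zpow_mul, ← zpow_mul, ← zpow_add, ← hb,
      Nat.cast_one, zpow_one]
  rw [h3]
  exact mul_mem (zpow_mem h2 _) (zpow_mem h1 _)

theorem exists_pow_orderOf {a : G} {k : ℕ} (ha : orderOf a = p ^ k) (ha1 : a ≠ 1) :
    ∃ e : ℕ, orderOf (a ^ e) = p := by
  obtain ⟨j, rfl⟩ : ∃ j, k = j + 1 := ⟨k - 1, by
    rcases k with _ | j
    · exact absurd (orderOf_eq_one_iff.mp (by rw [ha, pow_zero])) ha1
    · omega⟩
  refine ⟨p ^ j, ?_⟩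
  rw [orderOf_pow' a (pow_ne_zero _ hp.out.ne_zero), ha, pow_succ, Nat.gcd_mul_right_left,
    Nat.mul_div_cancel_left _ (pow_pos hp.out.pos _)]

/-- Two elements of order `p` of a cyclic group generate the same subgroup. -/
theorem zpowers_eq_of_orderOf {P : Subgroup G} [IsCyclic P] {a b : G} (ha : a ∈ P) (hb : b ∈ P)
    (hao : orderOf a = p) (hbo : orderOf b = p) : zpowers a = zpowers b := by
  classical
  letI := Fintype.ofFinite P
  have key : ∀ c : P, orderOf c = p → (zpowers c : Set P) = {x | x ^ p = 1} := by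
    intro c hc
    refine Set.eq_of_subset_of_ncard_le (fun x hx => ?_) ?_
    · obtain ⟨i, rfl⟩ := mem_zpowers_iff.mp hx
      show (c ^ i) ^ p = 1
      rw [← zpow_natCast, ← zpow_mul, mul_comm, zpow_mul, zpow_natCast, ← hc, pow_orderOf_eq_one,
        one_zpow]
    · rw [Set.ncard_eq_toFinset_card', ← Nat.card_coe_set_eq]
      show _ ≤ Nat.card (zpowers c)
      rw [Nat.card_zpowers, hc]
      refine le_trans (le_of_eq ?_) (IsCyclic.card_pow_eq_one_le (α := P) hp.out.pos)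
      congr 1
      ext x
      simp
  have h : zpowers (⟨a, ha⟩ : P) = zpowers (⟨b, hb⟩ : P) :=
    SetLike.coe_injective ((key _ ((Subgroup.orderOf_mk _ _).trans hao)).trans
      (key _ ((Subgroup.orderOf_mk _ _).trans hbo)).symm)
  have h' := congrArg (Subgroup.map P.subtype) h
  rwa [MonoidHom.map_zpowers, MonoidHom.map_zpowers] at h'

omit [Finite G] hp in
theorem conj_mem {P : Subgroup G} {h w : G} (hN : h ∈ normalizer (P : Set G)) (hw : w ∈ P) :
    h * w * h⁻¹ ∈ P := (Subgroup.mem_normalizer_iff.mp hN w).mp hw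

omit [Finite G] hp in
theorem comm_iff {x y : G} : x * y * x⁻¹ = y ↔ x * y = y * x := mul_inv_eq_iff_eq_mul

/-- A `p'`-element normalising a cyclic `p`-group and centralising a nontrivial element of it
centralises all of it. -/
theorem mem_centralizer_of_fix {P : Subgroup G} (hP : IsPGroup p P) [IsCyclic P] {h : G}
    (hN : h ∈ normalizer (P : Set G)) (hh : ¬ p ∣ orderOf h) {a : G} (ha : a ∈ P) (ha1 : a ≠ 1)
    (hcomm : h * a = a * h) : h ∈ centralizer (P : Set G) := by
  rw [mem_centralizer_iff]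
  intro v hv
  by_contra hne
  have hPc : ∀ x ∈ P, ∀ y ∈ P, x * y = y * x := fun x hx y hy => by
    letI := IsCyclic.commGroup (α := P)
    exact congrArg Subtype.val (mul_comm (⟨x, hx⟩ : P) ⟨y, hy⟩)
  set w := h * v * h⁻¹ * v⁻¹ with hw
  have hwP : w ∈ P := mul_mem (conj_mem hN hv) (inv_mem hv)
  have hw1 : w ≠ 1 := fun h1 => hne (by
    rw [hw, mul_inv_eq_one, mul_inv_eq_iff_eq_mul] at h1
    exact h1.symm)
  obtain ⟨k₁, hk₁⟩ := exists_orderOf_eq_pow hP hwP
  obtain ⟨k₂, hk₂⟩ := exists_orderOf_eq_pow hP ha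
  obtain ⟨e, he⟩ := exists_pow_orderOf hk₁ hw1
  obtain ⟨f, hf⟩ := exists_pow_orderOf hk₂ ha1
  set w' := w ^ e with hw'
  set v' := v ^ e
  have hwe : h * v' * h⁻¹ = w' * v' := by
    have h1 : h * v * h⁻¹ = w * v := by rw [hw, inv_mul_cancel_right]
    have h2 : h * v' * h⁻¹ = (w * v) ^ e := by rw [← h1, conj_pow]
    rw [h2, Commute.mul_pow (hPc w hwP v hv)]
  have hmem : w' ∈ zpowers (a ^ f) := by
    rw [← zpowers_eq_of_orderOf (pow_mem hwP e) (pow_mem ha f) he hf]
    exact mem_zpowers _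
  obtain ⟨i, hi⟩ := mem_zpowers_iff.mp hmem
  have hfix : h * w' = w' * h := by
    rw [← hi]; exact ((show Commute h a from hcomm).pow_right f).zpow_right i
  have hiter : ∀ j : ℕ, h ^ j * v' * (h ^ j)⁻¹ = w' ^ j * v' := by
    intro j
    induction j with
    | zero => simp
    | succ j ih =>
      have hc : h * w' ^ j = w' ^ j * h := ((show Commute h w' from hfix).pow_right j)
      rw [pow_succ', pow_succ w' j]
      calc h * h ^ j * v' * (h * h ^ j)⁻¹ = h * (h ^ j * v' * (h ^ j)⁻¹) * h⁻¹ := by group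
        _ = h * (w' ^ j * v') * h⁻¹ := by rw [ih]
        _ = (h * w' ^ j) * v' * h⁻¹ := by group
        _ = w' ^ j * (h * v' * h⁻¹) := by rw [hc]; group
        _ = w' ^ j * w' * v' := by rw [hwe]; group
  have h5 := hiter (orderOf h)
  rw [pow_orderOf_eq_one, one_mul, inv_one, mul_one, eq_comm, mul_eq_right] at h5
  have h6 := eq_one_of_pow (k := 1) (by rw [he, pow_one]) hh h5
  rw [h6, orderOf_one] at he
  exact hp.out.ne_one he.symm

/-- A `p'`-element acting nontrivially on a cyclic `p`-group makes every element a commutator. -/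
theorem exists_commutator_eq {P : Subgroup G} (hP : IsPGroup p P) [IsCyclic P] {h : G}
    (hN : h ∈ normalizer (P : Set G)) (hh : ¬ p ∣ orderOf h)
    (hC : h ∉ centralizer (P : Set G)) {v : G} (hv : v ∈ P) :
    ∃ w ∈ P, h * w * h⁻¹ * w⁻¹ = v := by
  let φ : P → P := fun w => ⟨h * w * h⁻¹ * (w : G)⁻¹, mul_mem (conj_mem hN w.2) (inv_mem w.2)⟩
  have hinj : Function.Injective φ := by
    intro w w' hww
    have h1 : h * w * h⁻¹ * (w : G)⁻¹ = h * w' * h⁻¹ * (w' : G)⁻¹ := congrArg Subtype.val hww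
    by_contra hne
    have hx1 : ((w' : G)⁻¹ * w) ≠ 1 := fun hc => hne (Subtype.ext (inv_mul_eq_one.mp hc).symm)
    refine hC (mem_centralizer_of_fix hP hN hh (mul_mem (inv_mem w'.2) w.2) hx1 ?_)
    have hPc : ∀ x ∈ P, ∀ y ∈ P, x * y = y * x := fun x hx y hy => by
      letI := IsCyclic.commGroup (α := P)
      exact congrArg Subtype.val (mul_comm (⟨x, hx⟩ : P) ⟨y, hy⟩)
    apply comm_iff.mp
    calc h * ((w' : G)⁻¹ * w) * h⁻¹
        = (h * w' * h⁻¹)⁻¹ * ((h * w * h⁻¹ * (w : G)⁻¹) * w) := by group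
      _ = (h * w' * h⁻¹)⁻¹ * ((h * w' * h⁻¹ * (w' : G)⁻¹) * w) := by rw [h1]
      _ = (w' : G)⁻¹ * w := by group
  obtain ⟨w, hw⟩ := (Finite.injective_iff_surjective.mp hinj) ⟨v, hv⟩
  exact ⟨w, w.2, congrArg Subtype.val hw⟩

/-- A subgroup normalised by `P` containing a `p'`-element that acts nontrivially on `P`
contains `P`. -/
theorem le_of_normalized {P : Subgroup G} (hP : IsPGroup p P) [IsCyclic P] {h : G}
    (hN : h ∈ normalizer (P : Set G)) (hh : ¬ p ∣ orderOf h)
    (hC : h ∉ centralizer (P : Set G)) (C : Subgroup G) (hPC : P ≤ normalizer (C : Set G))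
    (hhC : h ∈ C) : P ≤ C := by
  intro v hv
  obtain ⟨w, hw, rfl⟩ := exists_commutator_eq hP hN hh hC hv
  rw [show h * w * h⁻¹ * w⁻¹ = h * (w * h⁻¹ * w⁻¹) by group]
  exact mul_mem hhC (conj_mem (hPC hw) (inv_mem hhC))

omit [Finite G] in
theorem not_dvd_sup {K : Subgroup G} (hK : ¬ p ∣ Nat.card K) {g : G}
    (hg : g ∈ normalizer (K : Set G)) (hgo : ¬ p ∣ orderOf g) :
    ¬ p ∣ Nat.card ↥(K ⊔ zpowers g) := by
  set N := normalizer (K : Set G)
  haveI : (K.subgroupOf N).Normal := Subgroup.normal_in_normalizer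
  have hKN : K ≤ N := le_normalizer
  have hgN : zpowers g ≤ N := zpowers_le.mpr hg
  have h := Thompson.card_sup_dvd_mul ((zpowers g).subgroupOf N) (K.subgroupOf N)
  rw [← subgroupOf_sup hgN hKN, Nat.card_congr (subgroupOfEquivOfLe hgN).toEquiv,
    Nat.card_congr (subgroupOfEquivOfLe hKN).toEquiv,
    Nat.card_congr (subgroupOfEquivOfLe (sup_le hgN hKN)).toEquiv, sup_comm,
    Nat.card_zpowers] at h
  exact fun hdvd => not_dvd_mul hgo hK (hdvd.trans h)

/-- Commutation inside `K ⊔ ⟨g⟩`. -/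
theorem Hyp.comm_of_normalized (h : Hyp p G) {K : Subgroup G} (hK : ¬ p ∣ Nat.card K) {g : G}
    (hg : g ∈ normalizer (K : Set G)) (hgo : ¬ p ∣ orderOf g) {x : G} (hx : x ∈ K) :
    g * x = x * g :=
  h.ab _ (not_dvd_sup hK hg hgo) g (le_sup_right (a := K) (mem_zpowers g)) x
    (le_sup_left (b := zpowers g) hx)

/-- A `p'`-element of a group with normal `p`-complement centralises the `p`-subgroups it
normalises. -/
theorem comm_of_complement (hc : Cfsg.HasNormalPComplement p G) {h : G} (hh : ¬ p ∣ orderOf h)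
    {W : Subgroup G} (hW : IsPGroup p W) (hN : h ∈ normalizer (W : Set G)) {w : G} (hw : w ∈ W) :
    h * w = w * h := by
  obtain ⟨P0, N, hNn, hcompl⟩ := hc
  obtain ⟨j, hj⟩ := IsPGroup.iff_card.mp P0.isPGroup'
  have hidx : N.index = p ^ j := hcompl.symm.index_eq_card.trans hj
  have hNp : ¬ p ∣ Nat.card N := by
    rw [← hcompl.index_eq_card]; exact P0.not_dvd_index
  haveI := hNn
  have hhN : h ∈ N := by
    rw [← QuotientGroup.eq_one_iff, ← orderOf_eq_one_iff]
    refine Nat.eq_one_of_dvd_coprimes ((hp.out.coprime_iff_not_dvd.mpr hh).pow_left j) ?_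
      (orderOf_map_dvd (QuotientGroup.mk' N) h)
    rw [← hidx]; exact orderOf_dvd_natCard _
  have hcm : h * w * h⁻¹ * w⁻¹ ∈ N := by
    rw [show h * w * h⁻¹ * w⁻¹ = h * (w * h⁻¹ * w⁻¹) by group]
    exact mul_mem hhN (hNn.conj_mem _ (inv_mem hhN) w)
  obtain ⟨k, hk⟩ := exists_orderOf_eq_pow hW (mul_mem (conj_mem hN hw) (inv_mem hw))
  have h1 := eq_one_of_pelt hNp hcm hk
  rw [mul_inv_eq_one] at h1
  exact comm_iff.mp h1

/-- The complement of a normal subgroup with a normal `p`-complement. -/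
theorem exists_normal_of_complement {C : Subgroup G} [hCn : C.Normal]
    (hc : Cfsg.HasNormalPComplement p C) :
    ∃ K : Subgroup G, K.Normal ∧ ¬ p ∣ Nat.card K ∧ ∀ g ∈ C, ¬ p ∣ orderOf g → g ∈ K := by
  obtain ⟨P0, N, hNn, hcompl⟩ := hc
  obtain ⟨j, hj⟩ := IsPGroup.iff_card.mp P0.isPGroup'
  have hidx : N.index = p ^ j := hcompl.symm.index_eq_card.trans hj
  have hNp : ¬ p ∣ Nat.card N := by
    rw [← hcompl.index_eq_card]; exact P0.not_dvd_index
  haveI := hNn
  have key : ∀ c : C, c ∈ N ↔ ¬ p ∣ orderOf c := by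
    refine fun c => ⟨fun hc => not_dvd_of_mem hNp hc, fun hc => ?_⟩
    rw [← QuotientGroup.eq_one_iff, ← orderOf_eq_one_iff]
    refine Nat.eq_one_of_dvd_coprimes ((hp.out.coprime_iff_not_dvd.mpr hc).pow_left j) ?_
      (orderOf_map_dvd (QuotientGroup.mk' N) c)
    rw [← hidx]; exact orderOf_dvd_natCard _
  refine ⟨N.map C.subtype, ⟨fun x hx g => ?_⟩, ?_, fun g hg hgo => ?_⟩
  · obtain ⟨c, hc, rfl⟩ := mem_map.mp hx
    refine mem_map.mpr ⟨⟨g * c * g⁻¹, hCn.conj_mem _ c.2 g⟩, (key _).mpr ?_, rfl⟩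
    have h1 : orderOf (g * (c : G) * g⁻¹) = orderOf (c : G) :=
      orderOf_injective (MulAut.conj g).toMonoidHom (MulAut.conj g).injective (c : G)
    rw [Subgroup.orderOf_mk, h1, Subgroup.orderOf_coe]
    exact (key c).mp hc
  · rwa [card_map_of_injective C.subtype_injective]
  · exact mem_map.mpr ⟨⟨g, hg⟩, (key _).mpr (by rwa [Subgroup.orderOf_mk]), rfl⟩

/-- A Sylow subgroup all of whose normalising elements of prime-to-`p` order centralise it, and
which is abelian, is central in its normaliser. -/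
theorem normalizer_le_centralizer (P : Sylow p G)
    (hab : ∀ a ∈ (P : Subgroup G), ∀ b ∈ (P : Subgroup G), a * b = b * a)
    (h : ∀ g ∈ normalizer ((P : Subgroup G) : Set G), ¬ p ∣ orderOf g →
      g ∈ centralizer ((P : Subgroup G) : Set G)) :
    normalizer ((P : Subgroup G) : Set G) ≤ centralizer ((P : Subgroup G) : Set G) := by
  intro g hg
  refine mem_of_parts (p := p) _ g fun m hm => ?_
  rcases hm with ⟨k, hk⟩ | hm
  · have h1 : g ^ m ∈ zpowers (g ^ m) ⊓ normalizer ((P : Subgroup G) : Set G) :=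
      ⟨mem_zpowers _, pow_mem hg m⟩
    have h2 := (isPGroup_zpowers hk).inf_normalizer_sylow P
    exact mem_centralizer_iff.mpr fun b hb => hab b hb _ (h2.le h1).2
  · exact h _ (pow_mem hg m) hm

theorem hasNormalPComplement_of_burnside (P : Sylow p G)
    (h : normalizer ((P : Subgroup G) : Set G) ≤ centralizer ((P : Subgroup G) : Set G)) :
    Cfsg.HasNormalPComplement p G :=
  ⟨P, (MonoidHom.transferSylow P h).ker, inferInstance,
    MonoidHom.ker_transferSylow_isComplement' P h⟩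

/-- A normal `p'`-subgroup of `p`-power index is a normal `p`-complement. -/
theorem hasNormalPComplement_of_index (N : Subgroup G) (hN : N.Normal)
    (hNp : ¬ p ∣ Nat.card N) {j : ℕ} (hj : N.index = p ^ j) :
    Cfsg.HasNormalPComplement p G := by
  obtain ⟨P⟩ := (inferInstance : Nonempty (Sylow p G))
  obtain ⟨i, hi⟩ := IsPGroup.iff_card.mp P.isPGroup'
  have hco : Nat.Coprime (Nat.card N) (Nat.card (P : Subgroup G)) := by
    rw [hi]; exact ((hp.out.coprime_iff_not_dvd.mpr hNp).pow_left i).symm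
  refine ⟨P, N, hN, isComplement'_of_coprime ?_ hco⟩
  have h1 : Nat.card (P : Subgroup G) ∣ N.index :=
    hco.symm.dvd_of_dvd_mul_left (N.card_mul_index ▸ (P : Subgroup G).card_subgroup_dvd_card)
  have h2 : N.index ∣ Nat.card (P : Subgroup G) := by
    rw [hj]
    have h3 : p ^ j ∣ (P : Subgroup G).index * Nat.card (P : Subgroup G) :=
      hj ▸ (P : Subgroup G).index_mul_card ▸ N.index_dvd_card
    exact ((hp.out.coprime_iff_not_dvd.mpr P.not_dvd_index).pow_left j).dvd_of_dvd_mul_left h3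
  rw [Nat.dvd_antisymm h1 h2, N.card_mul_index]

end Finite

end Cfsg.Agent.H40.CyclicAbelian
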