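import Cfsg.Agent.H40.CyclicAbelian.Basic

/-!
A minimal counterexample to the dichotomy: the local structure around a Sylow `p`-subgroup.
-/

set_option autoImplicit false

namespace Cfsg.Agent.H40.CyclicAbelian

open Subgroup

universe u

variable {G : Type u} [Group G] [Finite G] {p : ℕ} [hp : Fact p.Prime]

/-- The properties of a minimal counterexample. -/
structure Ctx (p : ℕ) (G : Type u) [Group G] : Prop where
  hyp : Hyp p G
  notcompl : ¬ Cfsg.HasNormalPComplement p G
  simple : ∀ T : Subgroup G, T.Normal → T = ⊥ ∨ T = ⊤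
  ih : ∀ M : Subgroup G, M ≠ ⊤ → Concl p M

/-- The set of `p'`-elements of a subgroup with normal complement is a subgroup. -/
theorem exists_pprime_subgroup (C : Subgroup G) (hc : Cfsg.HasNormalPComplement p C) :
    ∃ K : Subgroup G, ¬ p ∣ Nat.card K ∧ ∀ x : G, x ∈ K ↔ x ∈ C ∧ ¬ p ∣ orderOf x := by
  obtain ⟨P0, N, hNn, hcompl⟩ := hc
  obtain ⟨j, hj⟩ := IsPGroup.iff_card.mp P0.isPGroup'
  have hidx : N.index = p ^ j := hcompl.symm.index_eq_card.trans hj
  have hNp : ¬ p ∣ Nat.card N := by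
    rw [← hcompl.index_eq_card]; exact P0.not_dvd_index
  have hK' : ¬ p ∣ Nat.card (N.map C.subtype) := by
    rwa [card_map_of_injective C.subtype_injective]
  haveI := hNn
  refine ⟨N.map C.subtype, hK', fun x => ⟨fun hx => ⟨map_subtype_le N hx, not_dvd_of_mem hK' hx⟩,
    fun hx => mem_map.mpr ⟨⟨x, hx.1⟩, ?_, rfl⟩⟩⟩
  rw [← QuotientGroup.eq_one_iff, ← orderOf_eq_one_iff]
  refine Nat.eq_one_of_dvd_coprimes ((hp.out.coprime_iff_not_dvd.mpr hx.2).pow_left j) ?_
    ((orderOf_map_dvd (QuotientGroup.mk' N) _).trans (Subgroup.orderOf_mk x hx.1).dvd)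
  rw [← hidx]; exact orderOf_dvd_natCard _

omit [Finite G] hp in
theorem normalizer_le_normalizer_centralizer (K : Subgroup G) :
    normalizer (K : Set G) ≤ normalizer ((centralizer (K : Set G) : Subgroup G) : Set G) := by
  intro g hg
  have aux : ∀ g ∈ normalizer (K : Set G), ∀ y ∈ centralizer (K : Set G),
      g * y * g⁻¹ ∈ centralizer (K : Set G) := by
    intro g hg y hy
    rw [mem_centralizer_iff] at hy ⊢
    intro k hk
    have h2 := hy _ ((Subgroup.mem_normalizer_iff''.mp hg k).mp hk)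
    calc k * (g * y * g⁻¹) = g * ((g⁻¹ * k * g) * y) * g⁻¹ := by group
      _ = g * (y * (g⁻¹ * k * g)) * g⁻¹ := by rw [h2]
      _ = g * y * g⁻¹ * k := by group
  rw [Subgroup.mem_normalizer_iff]
  intro y
  refine ⟨fun hy => aux g hg y hy, fun hy => ?_⟩
  have h := aux g⁻¹ (inv_mem hg) _ hy
  simpa [mul_assoc] using h

namespace Ctx

variable (h : Ctx p G)
include h

theorem mul_comm_of_mem (P : Sylow p G) {a b : G} (ha : a ∈ (P : Subgroup G))
    (hb : b ∈ (P : Subgroup G)) : a * b = b * a := by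
  haveI := h.hyp.cyc _ P.isPGroup'
  letI := IsCyclic.commGroup (α := (P : Subgroup G))
  exact congrArg Subtype.val (mul_comm (⟨a, ha⟩ : (P : Subgroup G)) ⟨b, hb⟩)

theorem exists_h (P : Sylow p G) :
    ∃ g ∈ normalizer ((P : Subgroup G) : Set G), ¬ p ∣ orderOf g ∧
      g ∉ centralizer ((P : Subgroup G) : Set G) := by
  by_contra hne
  push Not at hne
  exact h.notcompl (hasNormalPComplement_of_burnside P
    (normalizer_le_centralizer P (fun a ha b hb => h.mul_comm_of_mem P ha hb) hne))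

theorem center_eq_bot : center G = ⊥ := by
  refine (h.simple _ inferInstance).resolve_right fun htop => ?_
  obtain ⟨P⟩ := (inferInstance : Nonempty (Sylow p G))
  refine h.notcompl (hasNormalPComplement_of_burnside P fun g _ => ?_)
  rw [mem_centralizer_iff]
  intro b _
  exact mem_center_iff.mp (htop ▸ mem_top g) b

theorem centralizer_ne_top {a : G} (ha : a ≠ 1) : centralizer ({a} : Set G) ≠ ⊤ := fun htop =>
  ha (mem_bot.mp (h.center_eq_bot.le (mem_center_iff.mpr fun g =>
    (mem_centralizer_singleton_iff.mp (htop ▸ mem_top g) : g * a = a * g))))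

theorem sylow_ne_bot (P : Sylow p G) : (P : Subgroup G) ≠ ⊥ := by
  intro hb
  obtain ⟨g, -, -, hg⟩ := h.exists_h P
  exact hg (mem_centralizer_iff.mpr fun b hb' => by
    rw [mem_bot.mp (hb.le hb'), one_mul, mul_one])

theorem dvd_card : p ∣ Nat.card G := by
  obtain ⟨P⟩ := (inferInstance : Nonempty (Sylow p G))
  obtain ⟨j, hj⟩ := IsPGroup.iff_card.mp P.isPGroup'
  rcases j with _ | j
  · exact absurd (Subgroup.card_eq_one.mp (by rw [hj, pow_zero])) (h.sylow_ne_bot P)
  · exact (dvd_pow_self p (Nat.succ_ne_zero j)).trans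
      (hj ▸ (P : Subgroup G).card_subgroup_dvd_card)

omit h in
theorem conj_commute {P : Subgroup G} [IsCyclic P] {z g y : G} (hz : z ∈ P) (hzo : orderOf z = p)
    (hg : g ∈ normalizer (P : Set G)) (hy : y * z = z * y) :
    (g * y * g⁻¹) * z = z * (g * y * g⁻¹) := by
  have h1 : g⁻¹ * z * g ∈ P := by
    simpa using conj_mem (inv_mem hg) hz
  have h2 : orderOf (g⁻¹ * z * g) = p := by
    have := orderOf_injective (MulAut.conj g⁻¹).toMonoidHom (MulAut.conj g⁻¹).injective z
    rw [MulEquiv.coe_toMonoidHom, MulAut.conj_apply, inv_inv] at this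
    rw [this, hzo]
  have h3 : g⁻¹ * z * g ∈ zpowers z :=
    (zpowers_eq_of_orderOf h1 hz h2 hzo).le (mem_zpowers _)
  obtain ⟨i, hi⟩ := mem_zpowers_iff.mp h3
  have h4 : y * (g⁻¹ * z * g) = (g⁻¹ * z * g) * y := by
    rw [← hi]; exact (show Commute y z from hy).zpow_right i
  calc g * y * g⁻¹ * z = g * (y * (g⁻¹ * z * g)) * g⁻¹ := by group
    _ = g * ((g⁻¹ * z * g) * y) * g⁻¹ := by rw [h4]
    _ = z * (g * y * g⁻¹) := by group

/-- A `p'`-element centralising a nontrivial element of `P` centralises `P` and all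
`p'`-elements of the normaliser, and its centraliser normalises `P`. -/
theorem key (P : Sylow p G) {a x : G} (ha : a ∈ (P : Subgroup G)) (ha1 : a ≠ 1)
    (hx : ¬ p ∣ orderOf x) (hxa : x * a = a * x) :
    x ∈ centralizer ((P : Subgroup G) : Set G) ∧
    (∀ g ∈ normalizer ((P : Subgroup G) : Set G), ¬ p ∣ orderOf g → g * x = x * g) ∧
    (x ≠ 1 → centralizer ({x} : Set G) ≤ normalizer ((P : Subgroup G) : Set G)) := by
  haveI := h.hyp.cyc _ P.isPGroup'
  obtain ⟨k, hk⟩ := exists_orderOf_eq_pow P.isPGroup' ha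
  obtain ⟨e, he⟩ := exists_pow_orderOf hk ha1
  set z := a ^ e
  have hzP : z ∈ (P : Subgroup G) := pow_mem ha e
  have hxz : x * z = z * x := (show Commute x a from hxa).pow_right e
  set C0 := centralizer ({z} : Set G)
  have hz1 : z ≠ 1 := fun h1 => by
    rw [h1, orderOf_one] at he; exact hp.out.ne_one he.symm
  have hPC0 : (P : Subgroup G) ≤ C0 := fun b hb =>
    mem_centralizer_singleton_iff.mpr (h.mul_comm_of_mem P hb hzP)
  have hnormC0 : ∀ g ∈ normalizer ((P : Subgroup G) : Set G), ∀ y ∈ C0, g * y * g⁻¹ ∈ C0 :=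
    fun g hg y hy => mem_centralizer_singleton_iff.mpr
      (conj_commute hzP he hg (mem_centralizer_singleton_iff.mp hy))
  have hc : Cfsg.HasNormalPComplement p C0 := by
    let P0 : Sylow p C0 := P.subtype hPC0
    refine hasNormalPComplement_of_burnside P0 (normalizer_le_centralizer P0
      (fun b hb c hc => Subtype.ext (h.mul_comm_of_mem P hb hc)) fun g hg hgo => ?_)
    have hgN : (g : G) ∈ normalizer ((P : Subgroup G) : Set G) := by
      rw [Subgroup.mem_normalizer_iff] at hg ⊢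
      intro b
      refine ⟨fun hb => (hg ⟨b, hPC0 hb⟩).mp hb, fun hb => ?_⟩
      have hbC : b ∈ C0 := by
        have h1 := mul_mem (mul_mem (inv_mem g.2) (hPC0 hb)) g.2
        simpa [mul_assoc] using h1
      exact (hg ⟨b, hbC⟩).mpr hb
    have h1 := mem_centralizer_of_fix P.isPGroup' hgN (by rwa [Subgroup.orderOf_coe]) hzP hz1
      (mem_centralizer_singleton_iff.mp g.2)
    exact mem_centralizer_iff.mpr fun b hb => Subtype.ext (mem_centralizer_iff.mp h1 b hb)
  obtain ⟨K, hK, hmem⟩ := exists_pprime_subgroup C0 hc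
  have hnormK : normalizer ((P : Subgroup G) : Set G) ≤ normalizer (K : Set G) := by
    intro g hg
    rw [Subgroup.mem_normalizer_iff]
    intro y
    rw [hmem, hmem]
    have ho : orderOf (g * y * g⁻¹) = orderOf y :=
      orderOf_injective (MulAut.conj g).toMonoidHom (MulAut.conj g).injective y
    rw [ho]
    refine ⟨fun hy => ⟨hnormC0 g hg y hy.1, hy.2⟩, fun hy => ⟨?_, hy.2⟩⟩
    have h1 := hnormC0 g⁻¹ (inv_mem hg) _ hy.1
    simpa [mul_assoc] using h1
  have hxK : x ∈ K := (hmem x).mpr ⟨mem_centralizer_singleton_iff.mpr hxz, hx⟩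
  obtain ⟨h0, h0N, h0p, h0C⟩ := h.exists_h P
  have hcommK : ∀ g ∈ normalizer ((P : Subgroup G) : Set G), ¬ p ∣ orderOf g →
      g ∈ centralizer (K : Set G) := fun g hg hgo =>
    mem_centralizer_iff.mpr fun y hy => (h.hyp.comm_of_normalized hK (hnormK hg) hgo hy).symm
  have hPK : (P : Subgroup G) ≤ centralizer (K : Set G) :=
    le_of_normalized P.isPGroup' h0N h0p h0C _
      (le_trans (le_trans le_normalizer hnormK) (normalizer_le_normalizer_centralizer K))
      (hcommK h0 h0N h0p)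
  refine ⟨mem_centralizer_iff.mpr fun b hb => (mem_centralizer_iff.mp (hPK hb) x hxK).symm,
    fun g hg hgo => h.hyp.comm_of_normalized hK (hnormK hg) hgo hxK, fun hx1 => ?_⟩
  set M := centralizer ({x} : Set G)
  have hPM : (P : Subgroup G) ≤ M := fun b hb =>
    mem_centralizer_singleton_iff.mpr (mem_centralizer_iff.mp (hPK hb) x hxK).symm
  have h0M : h0 ∈ M := mem_centralizer_singleton_iff.mpr
    (h.hyp.comm_of_normalized hK (hnormK h0N) h0p hxK)
  rcases h.ih M (h.centralizer_ne_top hx1) with hcM | hnM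
  · exfalso
    refine h0C (mem_centralizer_iff.mpr fun b hb => ?_)
    have h1 := comm_of_complement hcM (h := ⟨h0, h0M⟩) (by rwa [Subgroup.orderOf_mk])
      (W := (P : Subgroup G).subgroupOf M) (P.isPGroup'.comap_subtype) (by
        rw [Subgroup.mem_normalizer_iff]
        exact fun y => Subgroup.mem_normalizer_iff.mp h0N (y : G))
      (w := ⟨b, hPM hb⟩) hb
    exact (congrArg Subtype.val h1).symm
  · haveI : ((P : Subgroup G).subgroupOf M).Normal := hnM (P.subtype hPM)
    exact le_normalizer_of_normal_subgroupOf (H := (P : Subgroup G)) hPM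

theorem ne_two : p ≠ 2 := by
  intro hp2
  obtain ⟨P⟩ := (inferInstance : Nonempty (Sylow p G))
  haveI := h.hyp.cyc _ P.isPGroup'
  obtain ⟨g, hgN, hgo, hgC⟩ := h.exists_h P
  obtain ⟨a, ha, ha1⟩ := (P : Subgroup G).ne_bot_iff_exists_ne_one.mp (h.sylow_ne_bot P) |>
    fun ⟨a, ha⟩ => (⟨a, a.2, fun hc => ha (Subtype.ext hc)⟩ : ∃ a, a ∈ (P : Subgroup G) ∧ a ≠ 1)
  obtain ⟨k, hk⟩ := exists_orderOf_eq_pow P.isPGroup' ha
  obtain ⟨e, he⟩ := exists_pow_orderOf hk ha1
  have hzP : a ^ e ∈ (P : Subgroup G) := pow_mem ha e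
  have hwo : orderOf (g * a ^ e * g⁻¹) = p :=
    (orderOf_injective (MulAut.conj g).toMonoidHom (MulAut.conj g).injective (a ^ e)).trans he
  have hmem : g * a ^ e * g⁻¹ ∈ zpowers (a ^ e) :=
    (zpowers_eq_of_orderOf (conj_mem hgN hzP) hzP hwo he).le (mem_zpowers _)
  obtain ⟨i, hi⟩ := mem_zpowers_iff.mp hmem
  have hne : g * a ^ e * g⁻¹ ≠ 1 := fun hc => by
    rw [hc, orderOf_one] at hwo; exact hp.out.ne_one hwo.symm
  rcases Int.even_or_odd i with ⟨j, rfl⟩ | ⟨j, rfl⟩
  · refine hne ?_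
    rw [← hi, show j + j = (p : ℤ) * j by rw [hp2]; ring, zpow_mul, zpow_natCast, ← he,
      pow_orderOf_eq_one, one_zpow]
  · refine hgC (mem_centralizer_of_fix P.isPGroup' hgN hgo hzP
      (fun hc => hne (by rw [hc, mul_one, mul_inv_cancel])) (comm_iff.mp ?_))
    rw [← hi, zpow_add, zpow_one, show 2 * j = (p : ℤ) * j by rw [hp2]; rfl, zpow_mul,
      zpow_natCast, ← he, pow_orderOf_eq_one, one_zpow, one_mul]

/-- For a prime `q ≠ p` dividing the order, some `p`-element normalises a Sylow `q`-subgroup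
without centralising it. -/
theorem exists_pelt_normalizer {q : ℕ} [hq : Fact q.Prime] (hqp : q ≠ p) (Q : Sylow q G)
    (hQ : (Q : Subgroup G) ≠ ⊥) :
    ∃ b : G, (∃ k, orderOf b = p ^ k) ∧ b ∈ normalizer ((Q : Subgroup G) : Set G) ∧
      b ∉ centralizer ((Q : Subgroup G) : Set G) := by
  by_contra hne
  push Not at hne
  obtain ⟨j, hj⟩ := IsPGroup.iff_card.mp Q.isPGroup'
  have hQp : ¬ p ∣ Nat.card (Q : Subgroup G) := by
    rw [hj]; intro hd
    exact hqp ((Nat.prime_dvd_prime_iff_eq hp.out hq.out).mp (hp.out.dvd_of_dvd_pow hd)).symm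
  have hle : normalizer ((Q : Subgroup G) : Set G) ≤ centralizer ((Q : Subgroup G) : Set G) := by
    intro g hg
    refine mem_of_parts (p := p) _ g fun m hm => ?_
    rcases hm with hk | hm
    · exact hne _ hk (pow_mem hg m)
    · exact mem_centralizer_iff.mpr fun y hy =>
        (h.hyp.comm_of_normalized hQp (pow_mem hg m) hm hy).symm
  have hcompl := MonoidHom.ker_transferSylow_isComplement' Q hle
  rcases h.simple (MonoidHom.transferSylow Q hle).ker inferInstance with hT | hT
  · have h1 := hcompl.card_mul_card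
    rw [hT, Subgroup.card_bot, one_mul] at h1
    exact hQp (h1 ▸ h.dvd_card)
  · have h1 : (MonoidHom.transferSylow Q hle).ker.index = Nat.card (Q : Subgroup G) :=
      hcompl.symm.index_eq_card
    rw [hT, Subgroup.index_top] at h1
    exact hQ (Subgroup.card_eq_one.mp h1.symm)

end Ctx

end Cfsg.Agent.H40.CyclicAbelian
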