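import Cfsg.Agent.H40.CyclicAbelian.Context
import Cfsg.Agent.Lib.Involution.Dihedral
import Cfsg.Agent.Lib.Solvable.Basic
import Cfsg.Agent.S0182

/-!
The case in which no nontrivial `p'`-element centralises a nontrivial `p`-element: all
centralisers are abelian, and counting pairs of involutions gives a contradiction.
-/

set_option autoImplicit false

namespace Cfsg.Agent.H40.CyclicAbelian

open Subgroup

universe u

variable {G : Type u} [Group G] [Finite G] {p : ℕ} [hp : Fact p.Prime]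

/-- No nontrivial `p'`-element commutes with a nontrivial `p`-element. -/
def Sep (p : ℕ) (G : Type u) [Group G] : Prop :=
  ∀ x a : G, ¬ p ∣ orderOf x → x ≠ 1 → (∃ k, orderOf a = p ^ k) → a ≠ 1 → ¬ Commute x a

variable (hs : Sep p G)
include hs

theorem Sep.pelt_or (g : G) : (∃ k, orderOf g = p ^ k) ∨ ¬ p ∣ orderOf g := by
  by_contra hne
  push Not at hne
  obtain ⟨k, m, hm, hNm⟩ := Nat.exists_eq_pow_mul_and_not_dvd (orderOf_pos g).ne' p hp.out.ne_one
  have hm0 : m ≠ 0 := fun h => hm (h ▸ dvd_zero p)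
  have h1 : orderOf (g ^ m) = p ^ k := by
    rw [orderOf_pow' g hm0, hNm, Nat.gcd_mul_left_left,
      Nat.mul_div_cancel _ (Nat.pos_of_ne_zero hm0)]
  have h2 : orderOf (g ^ (p ^ k)) = m := by
    rw [orderOf_pow' g (pow_ne_zero _ hp.out.ne_zero), hNm, Nat.gcd_mul_right_left,
      Nat.mul_div_cancel_left _ (pow_pos hp.out.pos _)]
  refine hs (g ^ (p ^ k)) (g ^ m) (h2 ▸ hm) (fun hc => ?_) ⟨k, h1⟩ (fun hc => ?_)
    (Commute.pow_pow_self g _ _)
  · rw [hc, orderOf_one] at h2
    exact hne.1 k (by rw [hNm, ← h2, mul_one])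
  · rw [hc, orderOf_one] at h1
    refine hm ?_
    have h3 := hne.2
    rwa [hNm, ← h1, one_mul] at h3

theorem Sep.not_dvd_centralizer {x : G} (hx : ¬ p ∣ orderOf x) (hx1 : x ≠ 1) :
    ¬ p ∣ Nat.card (centralizer ({x} : Set G)) := by
  intro hd
  obtain ⟨a, ha⟩ := exists_prime_orderOf_dvd_card' p hd
  have ha' : orderOf (a : G) = p := (Subgroup.orderOf_coe a).trans ha
  refine hs x a hx hx1 ⟨1, by rw [ha', pow_one]⟩ (fun hc => ?_)
    (mem_centralizer_singleton_iff.mp a.2).symm
  rw [hc, orderOf_one] at ha'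
  exact hp.out.ne_one ha'.symm

theorem Sep.isPGroup_centralizer {a : G} (ha : ∃ k, orderOf a = p ^ k) (ha1 : a ≠ 1) :
    IsPGroup p (centralizer ({a} : Set G)) := by
  rw [IsPGroup.iff_orderOf]
  intro g
  rw [← Subgroup.orderOf_coe g]
  rcases hs.pelt_or (g : G) with h | h
  · exact h
  · rcases eq_or_ne (g : G) 1 with h1 | h1
    · exact ⟨0, by rw [h1, orderOf_one, pow_zero]⟩
    · exact absurd (mem_centralizer_singleton_iff.mp g.2) (hs g a h h1 ha ha1)

variable (h : Ctx p G)
include h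

theorem Sep.comm_trans {x y z : G} (hy : y ≠ 1) (hxy : Commute x y) (hyz : Commute y z) :
    Commute x z := by
  rcases hs.pelt_or y with hyp | hyp
  · haveI := h.hyp.cyc _ (hs.isPGroup_centralizer hyp hy)
    letI := IsCyclic.commGroup (α := centralizer ({y} : Set G))
    exact congrArg Subtype.val (mul_comm
      (⟨x, mem_centralizer_singleton_iff.mpr hxy⟩ : centralizer ({y} : Set G))
      ⟨z, mem_centralizer_singleton_iff.mpr hyz.symm⟩)
  · exact h.hyp.ab _ (hs.not_dvd_centralizer hyp hy) x (mem_centralizer_singleton_iff.mpr hxy) z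
      (mem_centralizer_singleton_iff.mpr hyz.symm)

theorem Sep.even_card : Even (Nat.card G) := by
  rw [← Nat.not_odd_iff_even]
  intro hodd
  haveI : Group.IsSolvable G := S0182.result hodd fun x hx a ha b hb =>
    hs.comm_trans h hx (mem_centralizer_singleton_iff.mp ha)
      (mem_centralizer_singleton_iff.mp hb).symm
  haveI : Nontrivial G := by
    rw [← Finite.one_lt_card_iff_nontrivial]
    exact lt_of_lt_of_le hp.out.one_lt (Nat.le_of_dvd Nat.card_pos h.dvd_card)
  obtain ⟨N, -, hNn, hN1, -, -, -, hNab, -, -⟩ := Solvable.exists_minimal_normal_elementary G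
  have hN : N = ⊤ := (h.simple N hNn).resolve_left hN1
  subst hN
  obtain ⟨g, hg⟩ := exists_ne (1 : G)
  refine hg (mem_bot.mp (h.center_eq_bot.le (mem_center_iff.mpr fun y => ?_)))
  exact congrArg Subtype.val (mul_comm' (⟨y, trivial⟩ : (⊤ : Subgroup G)) ⟨g, trivial⟩)

omit hs h in
theorem sylow_le_eq {P : Sylow p G} {H : Subgroup G} (hH : IsPGroup p H)
    (hle : (P : Subgroup G) ≤ H) : H = (P : Subgroup G) :=
  P.is_maximal' hH hle

theorem Sep.centralizer_eq_sylow {P : Sylow p G} {a : G} (ha : a ∈ (P : Subgroup G))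
    (ha1 : a ≠ 1) : centralizer ({a} : Set G) = (P : Subgroup G) :=
  sylow_le_eq (hs.isPGroup_centralizer (exists_orderOf_eq_pow P.isPGroup' ha) ha1)
    fun _ hb => mem_centralizer_singleton_iff.mpr (h.mul_comm_of_mem P hb ha)

omit hs in
theorem not_dvd_orderOf_two {t : G} (ht : orderOf t = 2) : ¬ p ∣ orderOf t := by
  rw [ht]
  exact fun hd => h.ne_two ((Nat.prime_dvd_prime_iff_eq hp.out Nat.prime_two).mp hd)

/-- Two noncommuting involutions have a nontrivial `p`-element as product. -/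
theorem Sep.pelt_of_not_commute {s t : G} (hs2 : orderOf s = 2) (ht2 : orderOf t = 2)
    (hne : ¬ Commute s t) : (∃ k, orderOf (s * t) = p ^ k) ∧ s * t ≠ 1 := by
  have hss := Involution.mul_self_of_orderOf hs2
  have htt := Involution.mul_self_of_orderOf ht2
  refine ⟨(hs.pelt_or (s * t)).resolve_right fun hu => hne ?_, fun h1 => hne ?_⟩
  · have hsinv : s⁻¹ = s := inv_eq_of_mul_eq_one_right hss
    have htinv : t⁻¹ = t := inv_eq_of_mul_eq_one_right htt
    have hconj : s * (s * t) * s⁻¹ = (s * t)⁻¹ := by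
      rw [mul_inv_rev, hsinv, htinv, ← mul_assoc, hss, one_mul]
    have hN : s ∈ normalizer ((zpowers (s * t) : Subgroup G) : Set G) := by
      have hc : ∀ i : ℤ, s * (s * t) ^ i * s⁻¹ = (s * t) ^ (-i) := fun i => by
        rw [← conj_zpow, hconj, inv_zpow, zpow_neg]
      rw [Subgroup.mem_normalizer_iff]
      intro y
      constructor
      · intro hy
        obtain ⟨i, rfl⟩ := mem_zpowers_iff.mp hy
        rw [hc]; exact zpow_mem (mem_zpowers _) _
      · intro hy
        obtain ⟨i, hi⟩ := mem_zpowers_iff.mp hy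
        have hy' : y = s⁻¹ * (s * t) ^ i * s := by rw [hi]; group
        rw [hy', hsinv]
        have := hc i
        rw [hsinv] at this
        rw [this]; exact zpow_mem (mem_zpowers _) _
    have h3 := h.hyp.comm_of_normalized (by rwa [Nat.card_zpowers]) hN
      (not_dvd_orderOf_two h hs2) (mem_zpowers (s * t))
    show s * t = t * s
    calc s * t = s * (s * (s * t) * s⁻¹)⁻¹ * s⁻¹ * (1 : G) := by
          rw [hconj, inv_inv, h3, mul_inv_cancel_right, mul_one]
      _ = t * s := by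
          rw [hconj, inv_inv, mul_one, ← mul_assoc, hss, one_mul, hsinv]
  · rw [← inv_eq_of_mul_eq_one_right h1]
    exact Commute.inv_right (Commute.refl s)

theorem Sep.conj_of_not_commute {s t : G} (hs2 : orderOf s = 2) (ht2 : orderOf t = 2)
    (hne : ¬ Commute s t) : ∃ g : G, g * s * g⁻¹ = t := by
  obtain ⟨⟨k, hk⟩, -⟩ := hs.pelt_of_not_commute h hs2 ht2 hne
  obtain ⟨i, hi⟩ := Involution.exists_conj_of_odd (Involution.mul_self_of_orderOf hs2)
    (Involution.mul_self_of_orderOf ht2) (by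
      rw [hk]; exact (hp.out.odd_of_ne_two h.ne_two).pow)
  exact ⟨_, hi⟩

theorem Sep.exists_not_commute {t : G} (ht : orderOf t = 2) :
    ∃ v : G, orderOf v = 2 ∧ ¬ Commute t v := by
  by_contra hne
  push Not at hne
  have ht1 : t ≠ 1 := fun hc => by rw [hc, orderOf_one] at ht; omega
  have hn : (centralizer ({t} : Set G)).Normal := by
    refine ⟨fun y hy g => mem_centralizer_singleton_iff.mpr ?_⟩
    have ho : orderOf (g * t * g⁻¹) = 2 :=
      (orderOf_injective (MulAut.conj g).toMonoidHom (MulAut.conj g).injective t).trans ht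
    have h1 : Commute (g * y * g⁻¹) (g * t * g⁻¹) :=
      Commute.map (show Commute y t from mem_centralizer_singleton_iff.mp hy)
        (MulAut.conj g).toMonoidHom
    exact hs.comm_trans h (fun hc => by rw [hc, orderOf_one] at ho; omega) h1 (hne _ ho).symm
  rcases h.simple _ hn with hb | htop
  · exact ht1 (mem_bot.mp (hb.le (mem_centralizer_singleton_iff.mpr rfl)))
  · exact h.centralizer_ne_top ht1 htop

theorem Sep.conj_involutions {s t : G} (hs2 : orderOf s = 2) (ht2 : orderOf t = 2) :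
    ∃ g : G, g * s * g⁻¹ = t := by
  by_cases hc : Commute s t
  · obtain ⟨v, hv, hvt⟩ := hs.exists_not_commute h ht2
    have hsv : ¬ Commute s v := fun hsv => hvt (hs.comm_trans h
      (fun h1 => by rw [h1, orderOf_one] at hs2; omega) hc.symm hsv)
    obtain ⟨g₁, hg₁⟩ := hs.conj_of_not_commute h hs2 hv hsv
    obtain ⟨g₂, hg₂⟩ := hs.conj_of_not_commute h hv ht2 (fun h1 => hvt h1.symm)
    exact ⟨g₂ * g₁, by rw [← hg₂, ← hg₁]; group⟩
  · exact hs.conj_of_not_commute h hs2 ht2 hc

theorem Sep.card_involutions {t : G} (ht : orderOf t = 2) :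
    Nat.card {v : G // orderOf v = 2} * Nat.card (centralizer ({t} : Set G)) = Nat.card G := by
  have ho : ∀ g : G, orderOf (g * t * g⁻¹) = 2 := fun g =>
    (orderOf_injective (MulAut.conj g).toMonoidHom (MulAut.conj g).injective t).trans ht
  have key : ∀ a b : G, a⁻¹ * b ∈ centralizer ({t} : Set G) ↔ a * t * a⁻¹ = b * t * b⁻¹ := by
    intro a b
    rw [mem_centralizer_singleton_iff]
    constructor
    · intro hh
      calc a * t * a⁻¹ = a * (t * (a⁻¹ * b)) * b⁻¹ := by group
        _ = a * ((a⁻¹ * b) * t) * b⁻¹ := by rw [hh]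
        _ = b * t * b⁻¹ := by group
    · intro hh
      calc a⁻¹ * b * t = a⁻¹ * (b * t * b⁻¹) * b := by group
        _ = a⁻¹ * (a * t * a⁻¹) * b := by rw [hh]
        _ = t * (a⁻¹ * b) := by group
  let f : G ⧸ centralizer ({t} : Set G) → {v : G // orderOf v = 2} :=
    Quotient.lift (fun g => ⟨g * t * g⁻¹, ho g⟩) fun a b hab =>
      Subtype.ext ((key a b).mp (QuotientGroup.leftRel_apply.mp hab))
  have hf : Function.Bijective f := by
    refine ⟨fun a b => ?_, fun v => ?_⟩
    · refine Quotient.inductionOn₂ a b fun a b hab => ?_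
      exact Quotient.sound (QuotientGroup.leftRel_apply.mpr
        ((key a b).mpr (congrArg Subtype.val hab)))
    · obtain ⟨g, hg⟩ := hs.conj_involutions h ht v.2
      exact ⟨QuotientGroup.mk g, Subtype.ext hg⟩
  rw [← Nat.card_eq_of_bijective f hf]
  exact ((centralizer ({t} : Set G)).card_eq_card_quotient_mul_card_subgroup).symm

theorem Sep.card_commuting_eq {s t : G} (hs2 : orderOf s = 2) (ht2 : orderOf t = 2) :
    Nat.card {v : {v : G // orderOf v = 2} // Commute s v.1} =
      Nat.card {v : {v : G // orderOf v = 2} // Commute t v.1} := by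
  obtain ⟨g, hg⟩ := hs.conj_involutions h hs2 ht2
  let e : {v : G // orderOf v = 2} ≃ {v : G // orderOf v = 2} :=
    (MulAut.conj g).toEquiv.subtypeEquiv fun v => by
      rw [show (MulAut.conj g).toEquiv v = (MulAut.conj g).toMonoidHom v from rfl,
        orderOf_injective _ (MulAut.conj g).injective]
  refine Nat.card_congr (e.subtypeEquiv fun v => ⟨fun hv => ?_, fun hv => ?_⟩)
  · have h1 := Commute.map hv (MulAut.conj g).toMonoidHom
    rw [MulEquiv.coe_toMonoidHom, MulAut.conj_apply, hg] at h1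
    exact h1
  · have h1 := Commute.map hv (MulAut.conj g⁻¹).toMonoidHom
    rw [MulEquiv.coe_toMonoidHom, MulAut.conj_apply, inv_inv] at h1
    change Commute _ ((MulAut.conj g⁻¹) ((MulAut.conj g) v.1)) at h1
    rw [← hg, MulAut.conj_apply, MulAut.conj_apply, inv_inv] at h1
    simpa [mul_assoc] using h1

/-- Some `p`-element acts without fixed points on the involutions commuting with `t`. -/
theorem Sep.dvd_card_commuting {t : G} (ht : orderOf t = 2) :
    p ∣ Nat.card {v : {v : G // orderOf v = 2} // Commute t v.1} := by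
  haveI : Fact (Nat.Prime 2) := ⟨Nat.prime_two⟩
  obtain ⟨Q, hQ⟩ := (isPGroup_zpowers (G := G) (p := 2) (k := 1) (a := t)
    (by rw [ht, pow_one])).exists_le_sylow
  have htQ : t ∈ (Q : Subgroup G) := hQ (mem_zpowers t)
  have ht1 : t ≠ 1 := fun hc => by rw [hc, orderOf_one] at ht; omega
  have hQne : (Q : Subgroup G) ≠ ⊥ := fun hc => ht1 (mem_bot.mp (hc.le htQ))
  obtain ⟨b, ⟨k, hk⟩, hbN, hbC⟩ := h.exists_pelt_normalizer h.ne_two.symm Q hQne
  have hb1 : b ≠ 1 := fun hc => hbC (hc ▸ one_mem _)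
  have hQp : ¬ p ∣ Nat.card (Q : Subgroup G) := by
    obtain ⟨j, hj⟩ := IsPGroup.iff_card.mp Q.isPGroup'
    rw [hj]; intro hd
    exact h.ne_two ((Nat.prime_dvd_prime_iff_eq hp.out Nat.prime_two).mp
      (hp.out.dvd_of_dvd_pow hd))
  set T := {v : {v : G // orderOf v = 2} // Commute t v.1}
  let F : T → T := fun v => ⟨⟨b * v.1.1 * b⁻¹,
    (orderOf_injective (MulAut.conj b).toMonoidHom (MulAut.conj b).injective v.1.1).trans v.1.2⟩, by
    have h1 : Commute (b⁻¹ * t * b) v.1.1 := hs.comm_trans h ht1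
      (h.hyp.ab _ hQp _ (by simpa using conj_mem (inv_mem hbN) htQ) _ htQ) v.2
    have h2 := Commute.map h1 (MulAut.conj b).toMonoidHom
    rw [MulEquiv.coe_toMonoidHom, MulAut.conj_apply, MulAut.conj_apply] at h2
    have h3 : b * (b⁻¹ * t * b) * b⁻¹ = t := by group
    rwa [h3] at h2⟩
  have hF : Function.Injective F := fun v w hvw => by
    refine Subtype.ext (Subtype.ext ?_)
    have h1 : b * v.1.1 * b⁻¹ = b * w.1.1 * b⁻¹ :=
      congrArg Subtype.val (congrArg Subtype.val hvw)
    exact mul_left_cancel (mul_right_cancel h1)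
  let σ : Equiv.Perm T := Equiv.ofBijective F (Finite.injective_iff_bijective.mp hF)
  have hpow : ∀ (j : ℕ) (v : T), ((σ ^ j) v).1.1 = b ^ j * v.1.1 * (b ^ j)⁻¹ := by
    intro j v
    induction j with
    | zero => simp
    | succ j ih =>
      rw [pow_succ', Equiv.Perm.mul_apply]
      show b * ((σ ^ j) v).1.1 * b⁻¹ = _
      rw [ih, pow_succ']; group
  have hσ : σ ^ (p ^ k) = 1 := by
    ext v
    rw [hpow, ← hk, pow_orderOf_eq_one]; simp
  have hPg : IsPGroup p (zpowers σ) := by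
    obtain ⟨j, -, hj⟩ := (Nat.dvd_prime_pow hp.out).mp (orderOf_dvd_of_pow_eq_one hσ)
    exact isPGroup_zpowers hj
  have h0 := hPg.card_modEq_card_fixedPoints (α := T)
  have h1 : Nat.card (MulAction.fixedPoints (zpowers σ) T) = 0 := by
    rw [Nat.card_eq_zero]; left
    refine ⟨fun v => ?_⟩
    have h2 : σ v.1 = v.1 := v.2 ⟨σ, mem_zpowers σ⟩
    have h3 : b * v.1.1.1 * b⁻¹ = v.1.1.1 := congrArg (fun w : T => w.1.1) h2
    exact hs v.1.1.1 b (not_dvd_orderOf_two h v.1.1.2)
      (fun hc => by have := v.1.1.2; rw [hc, orderOf_one] at this; omega) ⟨k, hk⟩ hb1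
      (show Commute _ _ from (comm_iff.mp h3).symm)
  rw [h1] at h0
  exact Nat.modEq_zero_iff_dvd.mp h0

/-- The separated case is impossible. -/
theorem Sep.absurd : False := by
  classical
  haveI : Fact (Nat.Prime 2) := ⟨Nat.prime_two⟩
  obtain ⟨t, ht⟩ := exists_prime_orderOf_dvd_card' (G := G) 2 (hs.even_card h).two_dvd
  set I := {v : G // orderOf v = 2}
  set n := Nat.card I with hn
  set i := Nat.card {v : I // Commute t v.1} with hi
  have ht1 : t ≠ 1 := fun hc => by rw [hc, orderOf_one] at ht; omega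
  set S := {q : I × I // ¬ Commute q.1.1 q.2.1}
  have hS1 : Nat.card S = n * (n - i) := by
    haveI := Fintype.ofFinite I
    rw [Nat.card_congr (Equiv.subtypeProdEquivSigmaSubtype fun a b : I => ¬ Commute a.1 b.1),
      Nat.card_sigma, Finset.sum_const_nat (m := n - i), hn, Nat.card_eq_fintype_card,
      Finset.card_univ]
    intro v _
    rw [hn, hi, hs.card_commuting_eq h ht v.2, Nat.card_eq_fintype_card, Nat.card_eq_fintype_card,
      Nat.card_eq_fintype_card, Fintype.card_subtype_compl]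
  have hSyl : ∀ q : S, ∃ P : Sylow p G, q.1.1.1 * q.1.2.1 ∈ (P : Subgroup G) := fun q => by
    obtain ⟨⟨k, hk⟩, -⟩ := hs.pelt_of_not_commute h q.1.1.2 q.1.2.2 q.2
    obtain ⟨P, hP⟩ := (isPGroup_zpowers hk).exists_le_sylow
    exact ⟨P, hP (mem_zpowers _)⟩
  choose f hf using hSyl
  have hfu : ∀ (q : S) (P : Sylow p G), q.1.1.1 * q.1.2.1 ∈ (P : Subgroup G) → f q = P := by
    intro q P hP
    have h1 := (hs.pelt_of_not_commute h q.1.1.2 q.1.2.2 q.2).2
    exact Sylow.ext ((hs.centralizer_eq_sylow h (hf q) h1).symm.trans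
      (hs.centralizer_eq_sylow h hP h1))
  let Inv : Sylow p G → Type u := fun P =>
    {s : I // ∀ v ∈ (P : Subgroup G), s.1 * v * s.1⁻¹ = v⁻¹}
  have hfib : ∀ P : Sylow p G, Nat.card {q : S // f q = P} =
      Nat.card (Inv P) * (Nat.card (P : Subgroup G) - 1) := by
    intro P
    have hP1 : Nat.card {v : (P : Subgroup G) // v ≠ 1} = Nat.card (P : Subgroup G) - 1 := by
      haveI := Fintype.ofFinite (P : Subgroup G)
      rw [Nat.card_eq_fintype_card, Nat.card_eq_fintype_card, Fintype.card_subtype_compl,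
        Fintype.card_subtype_eq]
    rw [← hP1, ← Nat.card_prod]
    have hmem : ∀ q : {q : S // f q = P}, q.1.1.1.1 * q.1.1.2.1 ∈ (P : Subgroup G) :=
      fun q => by have h9 := hf q.1; rw [q.2] at h9; exact h9
    have hinv : ∀ q : {q : S // f q = P}, ∀ v ∈ (P : Subgroup G),
        q.1.1.1.1 * v * (q.1.1.1.1)⁻¹ = v⁻¹ := by
      intro q v hv
      obtain ⟨⟨k, hk⟩, hu1⟩ := hs.pelt_of_not_commute h q.1.1.1.2 q.1.1.2.2 q.1.2
      set s := q.1.1.1.1 with hsdef
      set w := s * q.1.1.2.1 with hw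
      have hss : s * s = 1 := Involution.mul_self_of_orderOf q.1.1.1.2
      have htt : q.1.1.2.1 * q.1.1.2.1 = 1 := Involution.mul_self_of_orderOf q.1.1.2.2
      have hsi : s⁻¹ = s := inv_eq_of_mul_eq_one_right hss
      have hC := hs.centralizer_eq_sylow h (hmem q) hu1
      have h5 : s * w * s⁻¹ = w⁻¹ := by
        rw [hw, mul_inv_rev, hsi, inv_eq_of_mul_eq_one_right htt, ← mul_assoc, hss, one_mul]
      have hsN : ∀ v ∈ (P : Subgroup G), s * v * s⁻¹ ∈ (P : Subgroup G) := by
        intro v hv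
        have h6 : Commute v w := mem_centralizer_singleton_iff.mp (hC.symm.le hv)
        have h7 := (Commute.map h6 (MulAut.conj s).toMonoidHom)
        rw [MulEquiv.coe_toMonoidHom, MulAut.conj_apply, MulAut.conj_apply, h5] at h7
        exact hC.le (mem_centralizer_singleton_iff.mpr (Commute.inv_right_iff.mp h7))
      rw [← mul_eq_one_iff_eq_inv]
      by_contra hne
      refine hs s (s * v * s⁻¹ * v) (not_dvd_orderOf_two h q.1.1.1.2) (fun hc => ?_)
        (exists_orderOf_eq_pow P.isPGroup' (mul_mem (hsN v hv) hv)) hne (comm_iff.mp ?_)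
      · have := q.1.1.1.2; rw [← hsdef, hc, orderOf_one] at this; omega
      · rw [h.mul_comm_of_mem P (hsN v hv) hv]
        calc s * (v * (s * v * s⁻¹)) * s⁻¹ = (s * v * s⁻¹) * ((s * s) * v * (s * s)⁻¹) := by group
          _ = v * (s * v * s⁻¹) := by
            rw [hss, one_mul, inv_one, mul_one, h.mul_comm_of_mem P (hsN v hv) hv]
    let g : {q : S // f q = P} → Inv P × {v : (P : Subgroup G) // v ≠ 1} := fun q =>
      (⟨q.1.1.1, hinv q⟩, ⟨⟨_, hmem q⟩, fun hc =>
        (hs.pelt_of_not_commute h q.1.1.1.2 q.1.1.2.2 q.1.2).2 (congrArg Subtype.val hc)⟩)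
    refine Nat.card_eq_of_bijective g ⟨fun a b hab => ?_, fun c => ?_⟩
    · have h1 : a.1.1.1.1 = b.1.1.1.1 := congrArg (fun c => c.1.1.1) hab
      have h2 : a.1.1.1.1 * a.1.1.2.1 = b.1.1.1.1 * b.1.1.2.1 :=
        congrArg (fun c => (c.2.1 : G)) hab
      rw [h1] at h2
      exact Subtype.ext (Subtype.ext (Prod.ext (Subtype.ext h1)
        (Subtype.ext (mul_left_cancel h2))))
    · obtain ⟨⟨⟨s, hs2⟩, hsinv⟩, ⟨⟨v, hv⟩, hv1⟩⟩ := c
      have hv1' : v ≠ 1 := fun hc => hv1 (Subtype.ext hc)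
      have hsv : s * v * s⁻¹ = v⁻¹ := hsinv v hv
      have hsi : s⁻¹ = s := inv_eq_of_mul_eq_one_right (Involution.mul_self_of_orderOf hs2)
      have hnc : ¬ Commute s v := hs s v (not_dvd_orderOf_two h hs2)
        (fun hc => by rw [hc, orderOf_one] at hs2; omega)
        (exists_orderOf_eq_pow P.isPGroup' hv) hv1'
      have ht2 : orderOf (s * v) = 2 := by
        refine orderOf_eq_prime ?_ fun hc => hnc ?_
        · rw [sq]
          calc s * v * (s * v) = (s * v * s⁻¹) * v := by rw [hsi]; group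
            _ = 1 := by rw [hsv, inv_mul_cancel]
        · rw [eq_inv_of_mul_eq_one_right hc]; exact (Commute.refl s).inv_right
      have hnc2 : ¬ Commute s (s * v) := fun hc => hnc (by
        have := ((Commute.refl s).inv_right).mul_right hc
        rwa [inv_mul_cancel_left] at this)
      refine ⟨⟨⟨(⟨s, hs2⟩, ⟨s * v, ht2⟩), hnc2⟩, hfu _ P ?_⟩, ?_⟩
      · show s * (s * v) ∈ (P : Subgroup G)
        rw [← mul_assoc, Involution.mul_self_of_orderOf hs2, one_mul]; exact hv
      · refine Prod.ext rfl (Subtype.ext (Subtype.ext ?_))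
        show s * (s * v) = v
        rw [← mul_assoc, Involution.mul_self_of_orderOf hs2, one_mul]
  have hInvP : ∀ P : Sylow p G, ∀ s0 : Inv P,
      Nat.card (Inv P) = Nat.card (P : Subgroup G) := by
    intro P s0
    obtain ⟨⟨s, hs2⟩, hsinv⟩ := s0
    have hss := Involution.mul_self_of_orderOf hs2
    have hsi : s⁻¹ = s := inv_eq_of_mul_eq_one_right hss
    have hmul : ∀ v ∈ (P : Subgroup G), s * v * s⁻¹ = v⁻¹ := hsinv
    have hne : ∀ v ∈ (P : Subgroup G), s * v ≠ 1 := fun v hv hc => by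
      have hsP : s ∈ (P : Subgroup G) := by
        rw [eq_inv_of_mul_eq_one_left hc]; exact inv_mem hv
      exact not_dvd_orderOf_two h hs2 (by
        obtain ⟨k, hk⟩ := exists_orderOf_eq_pow P.isPGroup' hsP
        rcases k with _ | k
        · rw [hs2, pow_zero] at hk; omega
        · rw [hk]; exact dvd_pow_self p (Nat.succ_ne_zero k))
    let g : ↥(P : Subgroup G) → Inv P := fun v => ⟨⟨s * v.1, orderOf_eq_prime (by
        rw [sq]
        calc s * v.1 * (s * v.1) = (s * v.1 * s⁻¹) * v.1 := by rw [hsi]; group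
          _ = 1 := by rw [hmul _ v.2, inv_mul_cancel]) (hne _ v.2)⟩, fun w hw => by
        show s * v.1 * w * (s * v.1)⁻¹ = w⁻¹
        rw [mul_assoc s, h.mul_comm_of_mem P v.2 hw, ← hmul w hw]; group⟩
    refine (Nat.card_eq_of_bijective g ⟨fun a b hab => ?_, fun r => ?_⟩).symm
    · exact Subtype.ext (mul_left_cancel
        (congrArg (fun c : Inv P => c.1.1) hab : s * a.1 = s * b.1))
    · obtain ⟨a, ha, ha1⟩ : ∃ a ∈ (P : Subgroup G), a ≠ 1 := by
        obtain ⟨a, ha⟩ := (Subgroup.ne_bot_iff_exists_ne_one).mp (h.sylow_ne_bot P)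
        exact ⟨a.1, a.2, fun hc => ha (Subtype.ext hc)⟩
      have hr : s⁻¹ * r.1.1 ∈ (P : Subgroup G) := by
        refine (hs.centralizer_eq_sylow h ha ha1).le (mem_centralizer_singleton_iff.mpr ?_)
        have h1 : r.1.1 * a * r.1.1⁻¹ = a⁻¹ := r.2 a ha
        have h2 : s * a * s⁻¹ = a⁻¹ := hmul a ha
        apply comm_iff.mp
        calc s⁻¹ * r.1.1 * a * (s⁻¹ * r.1.1)⁻¹ = s⁻¹ * (r.1.1 * a * r.1.1⁻¹) * s := by group
          _ = s⁻¹ * (s * a * s⁻¹) * s := by rw [h1, h2]
          _ = a := by group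
      exact ⟨⟨_, hr⟩, Subtype.ext (Subtype.ext (mul_inv_cancel_left s r.1.1))⟩
  obtain ⟨v, hv, hvt⟩ := hs.exists_not_commute h ht
  let q0 : S := ⟨(⟨t, ht⟩, ⟨v, hv⟩), hvt⟩
  obtain ⟨P0, hP0⟩ : ∃ P0, f q0 = P0 := ⟨_, rfl⟩
  obtain ⟨s0⟩ : Nonempty (Inv P0) := by
    by_contra hemp
    rw [not_nonempty_iff] at hemp
    have h1 := hfib P0
    rw [Nat.card_of_isEmpty (α := Inv P0), zero_mul, Nat.card_eq_zero] at h1
    exact h1.elim (fun hE => hE.false ⟨q0, hP0⟩) (fun hI => hI.not_finite (inferInstance))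
  have hall : ∀ P : Sylow p G, Nonempty (Inv P) := by
    intro P
    obtain ⟨g, hg⟩ := MulAction.exists_smul_eq G P0 P
    obtain ⟨⟨s, hs2⟩, hsinv⟩ := s0
    have hmem : ∀ v : G, v ∈ (P : Subgroup G) → g⁻¹ * v * g ∈ (P0 : Subgroup G) := by
      intro v hv
      rw [← hg, Sylow.coe_subgroup_smul] at hv
      obtain ⟨w, hw, rfl⟩ := hv
      change g⁻¹ * (g * w * g⁻¹) * g ∈ (P0 : Subgroup G)
      have h9 : g⁻¹ * (g * w * g⁻¹) * g = w := by group
      rw [h9]; exact hw
    refine ⟨⟨⟨g * s * g⁻¹,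
      (orderOf_injective (MulAut.conj g).toMonoidHom (MulAut.conj g).injective s).trans hs2⟩,
      fun v hv => ?_⟩⟩
    have h1 : s * (g⁻¹ * v * g) * s⁻¹ = (g⁻¹ * v * g)⁻¹ := hsinv _ (hmem v hv)
    calc g * s * g⁻¹ * v * (g * s * g⁻¹)⁻¹ = g * (s * (g⁻¹ * v * g) * s⁻¹) * g⁻¹ := by group
      _ = v⁻¹ := by rw [h1]; group
  have hS2 : Nat.card S = Nat.card (Sylow p G) *
      (Nat.card (P0 : Subgroup G) * (Nat.card (P0 : Subgroup G) - 1)) := by
    haveI := Fintype.ofFinite (Sylow p G)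
    rw [← Nat.card_congr (Equiv.sigmaFiberEquiv f), Nat.card_sigma,
      Finset.sum_const_nat (m := Nat.card (P0 : Subgroup G) * (Nat.card (P0 : Subgroup G) - 1))
        (fun P _ => by
          obtain ⟨r⟩ := hall P
          rw [hfib, hInvP P r, Nat.card_congr (Sylow.equiv P P0).toEquiv]),
      Finset.card_univ, ← Nat.card_eq_fintype_card]
  obtain ⟨m, hm⟩ := IsPGroup.iff_card.mp P0.isPGroup'
  have hmn : p ^ m ∣ n := by
    have h1 := hs.card_involutions h ht
    have h2 : Nat.Coprime (p ^ m) (Nat.card (centralizer ({t} : Set G))) :=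
      (hp.out.coprime_iff_not_dvd.mpr
        (hs.not_dvd_centralizer (not_dvd_orderOf_two h ht) ht1)).pow_left m
    refine h2.dvd_of_dvd_mul_right ?_
    rw [hn, h1, ← hm]
    exact (P0 : Subgroup G).card_subgroup_dvd_card
  have hm0 : m ≠ 0 := fun hc => h.sylow_ne_bot P0
    (Subgroup.card_eq_one.mp (by rw [hm, hc, pow_zero]))
  obtain ⟨a, ha⟩ := hmn
  obtain ⟨b, hb⟩ : p ∣ n - i := by
    refine Nat.dvd_sub ?_ (hs.dvd_card_commuting h ht)
    rw [ha]; exact (dvd_pow_self p hm0).mul_right a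
  have heq : a * (p * b) = Nat.card (Sylow p G) * (p ^ m - 1) := by
    apply Nat.eq_of_mul_eq_mul_left (pow_pos hp.out.pos m)
    have h1 := hS1.symm.trans hS2
    rw [hm, hb, ha] at h1
    rw [← mul_assoc, h1]; ring
  rcases hp.out.dvd_mul.mp (Dvd.intro_left a rfl |>.trans
      (show a * p ∣ Nat.card (Sylow p G) * (p ^ m - 1) from ⟨b, by rw [← heq]; ring⟩)) with h1 | h1
  · exact not_dvd_card_sylow p G h1
  · have h2 : p ∣ p ^ m := dvd_pow_self p hm0
    have h3 := Nat.dvd_sub h2 h1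
    rw [Nat.sub_sub_self (Nat.one_le_pow _ _ hp.out.pos)] at h3
    exact hp.out.ne_one (Nat.dvd_one.mp h3)

end Cfsg.Agent.H40.CyclicAbelian
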