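import Cfsg.Agent.H40.CyclicAbelian.Context
import Cfsg.Agent.H40.Friendship
import Cfsg.Agent.Lib.Involution.Dihedral

/-!
The case in which some `p'`-element centralises a Sylow `p`-subgroup: then `p = 3`, Sylow
`2`-subgroups are four-groups, and the commuting graph on involutions would be a regular
friendship graph.
-/

set_option autoImplicit false

namespace Cfsg.Agent.H40.CyclicAbelian

open Subgroup

universe u

variable {G : Type u} [Group G] [Finite G] {p : ℕ} [hp : Fact p.Prime] (h : Ctx p G)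
include h

theorem Ctx.key' (P : Sylow p G) {x : G} (hxC : x ∈ centralizer ((P : Subgroup G) : Set G))
    (hx : ¬ p ∣ orderOf x) :
    (∀ g ∈ normalizer ((P : Subgroup G) : Set G), ¬ p ∣ orderOf g → g * x = x * g) ∧
    (x ≠ 1 → centralizer ({x} : Set G) ≤ normalizer ((P : Subgroup G) : Set G)) := by
  obtain ⟨a, ha⟩ := (Subgroup.ne_bot_iff_exists_ne_one).mp (h.sylow_ne_bot P)
  exact (h.key P a.2 (fun hc => ha (Subtype.ext hc)) hx
    (mem_centralizer_iff.mp hxC _ a.2).symm).2

theorem Ctx.centralizer_eq (P : Sylow p G) {x : G}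
    (hxC : x ∈ centralizer ((P : Subgroup G) : Set G)) (hx : ¬ p ∣ orderOf x) (hx1 : x ≠ 1) :
    centralizer ({x} : Set G) = normalizer ((P : Subgroup G) : Set G) := by
  obtain ⟨h1, h2⟩ := h.key' P hxC hx
  refine le_antisymm (h2 hx1) fun g hg => mem_of_parts (p := p) _ g fun m hm => ?_
  rw [mem_centralizer_singleton_iff]
  rcases hm with ⟨k, hk⟩ | hm
  · have h3 : g ^ m ∈ zpowers (g ^ m) ⊓ normalizer ((P : Subgroup G) : Set G) :=
      ⟨mem_zpowers _, pow_mem hg m⟩
    exact mem_centralizer_iff.mp hxC _ (((isPGroup_zpowers hk).inf_normalizer_sylow P).le h3).2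
  · exact h1 _ (pow_mem hg m) hm

theorem Ctx.not_mem_conj (P : Sylow p G) {x b : G}
    (hxC : x ∈ centralizer ((P : Subgroup G) : Set G)) (hx : ¬ p ∣ orderOf x) (hx1 : x ≠ 1)
    (hb : b ∉ normalizer ((P : Subgroup G) : Set G)) :
    b * x * b⁻¹ ∉ centralizer ((P : Subgroup G) : Set G) := by
  intro hc
  have ho : orderOf (b * x * b⁻¹) = orderOf x :=
    orderOf_injective (MulAut.conj b).toMonoidHom (MulAut.conj b).injective x
  have h1 : b * x * b⁻¹ ≠ 1 := fun hh => hx1 (by
    rw [mul_inv_eq_one] at hh; exact mul_eq_left.mp hh)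
  have hC := h.centralizer_eq P hc (ho ▸ hx) h1
  have hC' := h.centralizer_eq P hxC hx hx1
  have hiff : ∀ g : G, g ∈ normalizer ((P : Subgroup G) : Set G) ↔
      b * g * b⁻¹ ∈ normalizer ((P : Subgroup G) : Set G) := by
    intro g
    conv_rhs => rw [← hC]
    conv_lhs => rw [← hC']
    rw [mem_centralizer_singleton_iff, mem_centralizer_singleton_iff]
    have e1 : b * g * b⁻¹ * (b * x * b⁻¹) = b * (g * x) * b⁻¹ := by group
    have e2 : b * x * b⁻¹ * (b * g * b⁻¹) = b * (x * g) * b⁻¹ := by group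
    rw [e1, e2]
    exact ⟨fun hh => by rw [hh], fun hh => mul_left_cancel (mul_right_cancel hh)⟩
  have hmem : ∀ y ∈ normalizer ((P : Subgroup G) : Set G), (∃ k, orderOf y = p ^ k) →
      y ∈ (P : Subgroup G) := fun y hy ⟨k, hk⟩ =>
    (((isPGroup_zpowers hk).inf_normalizer_sylow P).le ⟨mem_zpowers y, hy⟩).2
  refine hb (Subgroup.mem_normalizer_iff.mpr fun y => ⟨fun hy => ?_, fun hy => ?_⟩)
  · refine hmem _ ((hiff y).mp (le_normalizer hy)) ?_
    rw [show orderOf (b * y * b⁻¹) = orderOf y from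
      orderOf_injective (MulAut.conj b).toMonoidHom (MulAut.conj b).injective y]
    exact exists_orderOf_eq_pow P.isPGroup' hy
  · refine hmem _ ((hiff y).mpr (le_normalizer hy)) ?_
    rw [show orderOf y = orderOf (b * y * b⁻¹) from
      (orderOf_injective (MulAut.conj b).toMonoidHom (MulAut.conj b).injective y).symm]
    exact exists_orderOf_eq_pow P.isPGroup' hy

/-- The structure of a Sylow `q`-subgroup containing a `q`-element that centralises `P`. -/
theorem Ctx.sylow_structure (P : Sylow p G) {q : ℕ} [hq : Fact q.Prime] (Q : Sylow q G) {y : G}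
    (hyo : orderOf y = q) (hqp : q ≠ p) (hyC : y ∈ centralizer ((P : Subgroup G) : Set G))
    (hyQ : y ∈ (Q : Subgroup G)) :
    q = 2 ∧ p = 3 ∧ (∀ v ∈ (Q : Subgroup G), v * v = 1) ∧ Nat.card (Q : Subgroup G) = 4 ∧
      (∀ v ∈ (Q : Subgroup G), v ∈ centralizer ((P : Subgroup G) : Set G) → v = 1 ∨ v = y) ∧
      (∀ v ∈ (Q : Subgroup G), v ≠ 1 → ∃ g : G, g * y * g⁻¹ = v) ∧
      (Q : Subgroup G) ≤ normalizer ((P : Subgroup G) : Set G) := by
  classical
  haveI := Fintype.ofFinite G
  haveI := h.hyp.cyc _ P.isPGroup'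
  have hy1 : y ≠ 1 := fun hc => by rw [hc, orderOf_one] at hyo; exact hq.out.ne_one hyo.symm
  have hpq : ¬ p ∣ q := fun hd => hqp ((Nat.prime_dvd_prime_iff_eq hp.out hq.out).mp hd).symm
  have hQp : ¬ p ∣ Nat.card (Q : Subgroup G) := by
    obtain ⟨j, hj⟩ := IsPGroup.iff_card.mp Q.isPGroup'
    rw [hj]; exact fun hd => hpq (hp.out.dvd_of_dvd_pow hd)
  have hQab := h.hyp.ab _ hQp
  have hQN : (Q : Subgroup G) ≤ normalizer ((P : Subgroup G) : Set G) := fun v hv =>
    (h.key' P hyC (hyo ▸ hpq)).2 hy1 (mem_centralizer_singleton_iff.mpr (hQab v hv y hyQ))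
  have hQne : (Q : Subgroup G) ≠ ⊥ := fun hc => hy1 (mem_bot.mp (hc.le hyQ))
  obtain ⟨b, ⟨k, hk⟩, hbN, hbC⟩ := h.exists_pelt_normalizer hqp Q hQne
  have hbP : b ∉ normalizer ((P : Subgroup G) : Set G) := by
    intro hc
    have hbP : b ∈ (P : Subgroup G) :=
      (((isPGroup_zpowers hk).inf_normalizer_sylow P).le ⟨mem_zpowers b, hc⟩).2
    refine hbC (mem_centralizer_iff.mpr fun v hv => ?_)
    have h1 : b * v * b⁻¹ * v⁻¹ ∈ (P : Subgroup G) := by
      rw [show b * v * b⁻¹ * v⁻¹ = b * (v * b⁻¹ * v⁻¹) by group]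
      exact mul_mem hbP (conj_mem (hQN hv) (inv_mem hbP))
    obtain ⟨j, hj⟩ := exists_orderOf_eq_pow P.isPGroup' h1
    have h2 := eq_one_of_pelt hQp (mul_mem (conj_mem hbN hv) (inv_mem hv)) hj
    rw [mul_inv_eq_one] at h2
    exact (comm_iff.mp h2).symm
  -- the action of `Q` on the cyclic group `P`
  let φ := (P : Subgroup G).normalizerMonoidHom.comp (Subgroup.inclusion hQN)
  have hφ : ∀ v : (Q : Subgroup G), φ v = 1 ↔
      (v : G) ∈ centralizer ((P : Subgroup G) : Set G) := by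
    intro v
    rw [mem_centralizer_iff]
    constructor
    · intro hv c hc
      have h1 : (v : G) * c * (v : G)⁻¹ = c :=
        congrArg (fun f : MulAut (P : Subgroup G) => ((f ⟨c, hc⟩ : (P : Subgroup G)) : G)) hv
      exact (comm_iff.mp h1).symm
    · intro hv
      ext c
      show (v : G) * c * (v : G)⁻¹ = c
      exact comm_iff.mpr (hv _ c.2).symm
  obtain ⟨n, hn⟩ := IsPGroup.iff_card.mp P.isPGroup'
  have hn0 : n ≠ 0 := fun hc => h.sylow_ne_bot P
    (Subgroup.card_eq_one.mp (by rw [hn, hc, pow_zero]))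
  let e := IsCyclic.mulAutMulEquiv (P : Subgroup G)
  haveI hcycU : IsCyclic (ZMod (Nat.card (P : Subgroup G)))ˣ := by
    rw [hn]; exact ZMod.isCyclic_units_of_prime_pow p hp.out h.ne_two n
  haveI hcycA : IsCyclic (MulAut (P : Subgroup G)) :=
    isCyclic_of_surjective e.symm.toMonoidHom e.symm.surjective
  have hcardA : Nat.card (MulAut (P : Subgroup G)) = p ^ (n - 1) * (p - 1) := by
    haveI : NeZero (p ^ n) := ⟨pow_ne_zero _ hp.out.ne_zero⟩
    rw [Nat.card_congr e.toEquiv, hn, Nat.card_eq_fintype_card, ZMod.card_units_eq_totient,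
      Nat.totient_prime_pow hp.out (Nat.pos_of_ne_zero hn0)]
  have hdvdA : ∀ v : (Q : Subgroup G), orderOf (φ v) ∣ p - 1 := by
    intro v
    have h1 : Nat.Coprime (orderOf (φ v)) (p ^ (n - 1)) := by
      refine Nat.Coprime.pow_right _ (hp.out.coprime_iff_not_dvd.mpr ?_).symm
      exact fun hd => hQp (hd.trans ((orderOf_map_dvd φ v).trans (orderOf_dvd_natCard v)))
    exact h1.dvd_of_dvd_mul_left (hcardA ▸ orderOf_dvd_natCard (φ v))
  -- elements of exponent `q`
  let E := Finset.univ.filter fun v : (Q : Subgroup G) => v ^ q = 1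
  let F := E.filter fun v => φ v = 1
  have hImg : (E.image φ).card ≤ q := by
    haveI := Fintype.ofFinite (MulAut (P : Subgroup G))
    refine le_trans (Finset.card_le_card ?_)
      (IsCyclic.card_pow_eq_one_le (α := MulAut (P : Subgroup G)) hq.out.pos)
    intro f hf
    obtain ⟨v, hv, rfl⟩ := Finset.mem_image.mp hf
    simp only [E, Finset.mem_filter, Finset.mem_univ, true_and] at hv ⊢
    rw [← map_pow, hv, map_one]
  have hEF : E.card ≤ F.card * q := by
    refine le_trans (Finset.card_le_mul_card_image E F.card fun f hf => ?_)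
      (Nat.mul_le_mul_left _ hImg)
    obtain ⟨v0, hv0, rfl⟩ := Finset.mem_image.mp hf
    refine Finset.card_le_card_of_injOn (fun v => v0⁻¹ * v) ?_ ?_
    · intro v hv
      simp only [F, E, Finset.coe_filter, Finset.mem_filter, Finset.mem_univ, true_and,
        Set.mem_setOf_eq, Finset.mem_coe] at hv hv0 ⊢
      have hcm : Commute v0⁻¹ v := Subtype.ext
        (hQab _ (inv_mem v0.2) _ v.2)
      refine ⟨?_, ?_⟩
      · rw [hcm.mul_pow, inv_pow, hv0, hv.1, inv_one, one_mul]
      · rw [map_mul, map_inv, hv.2, inv_mul_cancel]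
    · exact fun a _ b _ hab => mul_left_cancel hab
  let bc : ↥(Q : Subgroup G) → ↥(Q : Subgroup G) := fun v =>
    ⟨b * v * b⁻¹, conj_mem hbN v.2⟩
  have hbc : ∀ v : (Q : Subgroup G), φ v = 1 → v ≠ 1 → φ (bc v) ≠ 1 := by
    intro v hv hv1 hc
    exact h.not_mem_conj P ((hφ v).mp hv) (not_dvd_of_mem hQp v.2)
      (fun hh => hv1 (Subtype.ext hh)) hbP ((hφ (bc v)).mp hc)
  have hbcm : ∀ v w : (Q : Subgroup G), bc (v * w) = bc v * bc w := fun v w =>
    Subtype.ext (show b * (v * w : G) * b⁻¹ = (b * v * b⁻¹) * (b * w * b⁻¹) by group)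
  have hbci : ∀ v : (Q : Subgroup G), bc v⁻¹ = (bc v)⁻¹ := fun v =>
    Subtype.ext (show b * ((v : G))⁻¹ * b⁻¹ = (b * v * b⁻¹)⁻¹ by group)
  have hFq : F.card ≤ q := by
    refine le_trans (Finset.card_le_card_of_injOn (fun v => φ (bc v)) ?_ ?_) hImg
    · intro v hv
      simp only [F, E, Finset.coe_filter, Finset.mem_filter, Finset.mem_univ, true_and,
        Set.mem_setOf_eq, Finset.mem_coe] at hv
      refine Finset.mem_coe.mpr (Finset.mem_image.mpr ⟨bc v, ?_, rfl⟩)
      simp only [E, Finset.mem_filter, Finset.mem_univ, true_and]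
      apply Subtype.ext
      show (b * (v : G) * b⁻¹) ^ q = 1
      rw [conj_pow, show (v : G) ^ q = 1 from congrArg Subtype.val hv.1, mul_one, mul_inv_cancel]
    · intro v hv w hw hvw
      simp only [F, E, Finset.coe_filter, Finset.mem_filter, Finset.mem_univ, true_and,
        Set.mem_setOf_eq, Finset.mem_coe] at hv hw
      by_contra hne
      refine hbc (w⁻¹ * v) ?_ (fun hc => hne (inv_mul_eq_one.mp hc).symm) ?_
      · rw [map_mul, map_inv, hv.2, hw.2, inv_one, mul_one]
      · rw [hbcm, hbci, map_mul, map_inv]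
        exact inv_mul_eq_one.mpr hvw.symm
  let yQ : (Q : Subgroup G) := ⟨y, hyQ⟩
  have hyQo : orderOf yQ = q := (Subgroup.orderOf_mk _ _).trans hyo
  have hyQ1 : yQ ≠ 1 := fun hc => hy1 (congrArg Subtype.val hc)
  have hφy : φ yQ = 1 := (hφ yQ).mpr hyC
  have hpowF : ∀ j : ℕ, yQ ^ j ∈ F := by
    intro j
    simp only [F, E, Finset.mem_filter, Finset.mem_univ, true_and]
    exact ⟨by rw [← pow_mul, mul_comm, pow_mul, orderOf_dvd_iff_pow_eq_one.mp (dvd_of_eq hyQo), one_pow],
      by rw [map_pow, hφy, one_pow]⟩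
  have hFeq : (Finset.range q).image (fun j => yQ ^ j) = F := by
    refine Finset.eq_of_subset_of_card_le (fun v hv => ?_) ?_
    · obtain ⟨j, -, rfl⟩ := Finset.mem_image.mp hv; exact hpowF j
    · rw [Finset.card_image_of_injOn, Finset.card_range]
      · exact hFq
      · intro i hi j hj hij
        refine pow_injOn_Iio_orderOf ?_ ?_ hij
        · rw [hyQo]; exact Set.mem_Iio.mpr (Finset.mem_range.mp hi)
        · rw [hyQo]; exact Set.mem_Iio.mpr (Finset.mem_range.mp hj)
  have hqdvd : q ∣ p - 1 := by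
    have h1 := hbc yQ hφy hyQ1
    have h2 : orderOf (φ (bc yQ)) = q := orderOf_eq_prime (by
      rw [← map_pow]
      have : bc yQ ^ q = 1 := Subtype.ext (by
        show (b * y * b⁻¹) ^ q = 1
        rw [conj_pow, ← hyo, pow_orderOf_eq_one, mul_one, mul_inv_cancel])
      rw [this, map_one]) h1
    exact h2 ▸ hdvdA (bc yQ)
  -- the conjugates of the elements of `F` under `b`
  have hbpow : ∀ i j : ℕ, i < j → j < p → b ^ (j - i) ∉ normalizer ((P : Subgroup G) : Set G) := by
    intro i j hij hjp hc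
    refine hbP (mem_of_parts (p := p) _ b fun m _ => pow_mem ?_ m)
    have hco : Nat.Coprime (j - i) (orderOf b) := by
      rw [hk]
      exact ((hp.out.coprime_iff_not_dvd.mpr (Nat.not_dvd_of_pos_of_lt (by omega) (by omega))).symm
        ).pow_right k
    obtain ⟨m, hm⟩ := exists_pow_eq_self_of_coprime hco
    rw [← hm]; exact pow_mem hc m
  let g : Fin p × Fin (q - 1) → G := fun a => b ^ (a.1 : ℕ) * y ^ ((a.2 : ℕ) + 1) * (b ^ (a.1 : ℕ))⁻¹
  have hginj : Function.Injective g := by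
    have hcase : ∀ (i j : Fin p) (r s : Fin (q - 1)), (i : ℕ) < j → g (i, r) ≠ g (j, s) := by
      intro i j r s hij heq
      have hs1 : y ^ ((s : ℕ) + 1) ≠ 1 := by
        refine pow_ne_one_of_lt_orderOf (Nat.succ_ne_zero _) ?_
        rw [hyo]; omega
      refine h.not_mem_conj P (pow_mem hyC _) ?_ hs1 (hbpow i j hij j.2) ?_
      · exact not_dvd_of_mem hQp (pow_mem hyQ _)
      · have hh : b ^ ((j : ℕ) - i) * y ^ ((s : ℕ) + 1) * (b ^ ((j : ℕ) - i))⁻¹ =
            y ^ ((r : ℕ) + 1) := by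
          have hsplit : b ^ (j : ℕ) = b ^ (i : ℕ) * b ^ ((j : ℕ) - i) := by
            rw [← pow_add]; congr 1; omega
          simp only [g] at heq
          rw [hsplit] at heq
          calc b ^ ((j : ℕ) - i) * y ^ ((s : ℕ) + 1) * (b ^ ((j : ℕ) - i))⁻¹
              = (b ^ (i : ℕ))⁻¹ * (b ^ (i : ℕ) * b ^ ((j : ℕ) - i) * y ^ ((s : ℕ) + 1) *
                  (b ^ (i : ℕ) * b ^ ((j : ℕ) - i))⁻¹) * b ^ (i : ℕ) := by group
            _ = y ^ ((r : ℕ) + 1) := by rw [← heq]; group
        rw [hh]; exact pow_mem hyC _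
    rintro ⟨i, r⟩ ⟨j, s⟩ heq
    rcases lt_trichotomy (i : ℕ) j with hij | hij | hij
    · exact absurd heq (hcase i j r s hij)
    · obtain rfl := Fin.ext hij
      have h1 : y ^ ((r : ℕ) + 1) = y ^ ((s : ℕ) + 1) := mul_left_cancel (mul_right_cancel heq)
      have h2 := pow_injOn_Iio_orderOf (x := y)
        (Set.mem_Iio.mpr (by rw [hyo]; omega)) (Set.mem_Iio.mpr (by rw [hyo]; omega)) h1
      exact Prod.ext rfl (Fin.ext (by simpa using h2))
    · exact absurd heq.symm (hcase j i s r hij)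
  have hbpN : ∀ i : ℕ, b ^ i ∈ normalizer ((Q : Subgroup G) : Set G) := fun i => pow_mem hbN i
  let gQ : Fin p × Fin (q - 1) → ↥(Q : Subgroup G) := fun a =>
    ⟨g a, conj_mem (hbpN _) (pow_mem hyQ _)⟩
  have hgQ : Function.Injective gQ := fun a c hac => hginj (congrArg Subtype.val hac)
  have hgE : ∀ a, gQ a ∈ E.erase 1 := by
    intro a
    simp only [Finset.mem_erase, E, Finset.mem_filter, Finset.mem_univ, true_and]
    refine ⟨fun hc => ?_, Subtype.ext ?_⟩
    · have h1 : y ^ ((a.2 : ℕ) + 1) = 1 := by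
        have h2 : g a = 1 := congrArg Subtype.val hc
        simp only [g] at h2
        rwa [mul_inv_eq_one, mul_eq_left] at h2
      exact pow_ne_one_of_lt_orderOf (Nat.succ_ne_zero _)
        (by rw [hyo]; have := a.2.2; omega) h1
    · show (g a) ^ q = 1
      simp only [g]
      rw [conj_pow, ← pow_mul, mul_comm, pow_mul, orderOf_dvd_iff_pow_eq_one.mp (dvd_of_eq hyo), one_pow, mul_one,
        mul_inv_cancel]
  have hE1 : (1 : (Q : Subgroup G)) ∈ E := by simp [E]
  have hcnt : p * (q - 1) ≤ E.card - 1 := by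
    rw [← Finset.card_erase_of_mem hE1]
    refine le_trans (le_of_eq ?_) (Finset.card_le_card_of_injOn (s := Finset.univ) gQ
      (fun a _ => hgE a) fun a _ c _ hac => hgQ hac)
    simp [Finset.card_univ]
  have hE2 : E.card ≤ q * q := hEF.trans (Nat.mul_le_mul_right _ hFq)
  have hqlt : q + 1 ≤ p := by
    have := Nat.le_of_dvd (by have := hp.out.two_le; omega) hqdvd; omega
  have hpq1 : p = q + 1 := by
    obtain ⟨r, rfl⟩ : ∃ r, q = r + 2 := ⟨q - 2, by have := hq.out.two_le; omega⟩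
    have h1 : p * (r + 1) ≤ (r + 2) * (r + 2) - 1 := le_trans hcnt (Nat.sub_le_sub_right hE2 1)
    have h2 : (r + 2) * (r + 2) - 1 = (r + 3) * (r + 1) := by
      have : (r + 2) * (r + 2) = (r + 3) * (r + 1) + 1 := by ring
      omega
    rw [h2] at h1
    have := Nat.le_of_mul_le_mul_right h1 (Nat.succ_pos r)
    omega
  have hq2 : q = 2 := by
    rcases hq.out.eq_two_or_odd' with h1 | h1
    · exact h1
    · exfalso
      have hev : Even p := by rw [hpq1]; exact h1.add_one
      exact h.ne_two ((Nat.prime_dvd_prime_iff_eq Nat.prime_two hp.out).mp hev.two_dvd).symm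
  subst hq2
  have hp3 : p = 3 := hpq1
  have hsq : ∀ v : (Q : Subgroup G), φ (v * v) = 1 := by
    intro v
    have h1 : φ v ^ 2 = 1 := orderOf_dvd_iff_pow_eq_one.mp (by
      have := hdvdA v; have h2 : p - 1 = 2 := (by omega); rwa [h2] at this)
    rw [map_mul, ← sq, h1]
  have hexp : ∀ v : (Q : Subgroup G), v * v = 1 := by
    intro v
    by_contra hne
    exact hbc _ (hsq v) hne (by rw [hbcm]; exact hsq _)
  have hEuniv : E = Finset.univ := by
    ext v; simp [E, sq, hexp v]
  have hEcard : E.card = Nat.card (Q : Subgroup G) := by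
    rw [hEuniv, Finset.card_univ, Nat.card_eq_fintype_card]
  have hcard4 : Nat.card (Q : Subgroup G) = 4 := by
    obtain ⟨j, hj⟩ := IsPGroup.iff_card.mp Q.isPGroup'
    have h1 : 3 ≤ E.card - 1 := by simpa [hp3] using hcnt
    have h2 : E.card ≤ 4 := hE2
    omega
  refine ⟨rfl, hp3, fun v hv => congrArg Subtype.val (hexp ⟨v, hv⟩), hcard4,
    fun v hv hvC => ?_, fun v hv hv1 => ?_, hQN⟩
  · have h1 : (⟨v, hv⟩ : (Q : Subgroup G)) ∈ F := by
      simp only [F, Finset.mem_filter]
      exact ⟨hEuniv ▸ Finset.mem_univ _, (hφ _).mpr hvC⟩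
    rw [← hFeq] at h1
    obtain ⟨j, hj, hjv⟩ := Finset.mem_image.mp h1
    have hj' : j < 2 := Finset.mem_range.mp hj
    have h2 : y ^ j = v := congrArg Subtype.val hjv
    interval_cases j
    · exact Or.inl (by rw [← h2, pow_zero])
    · exact Or.inr (by rw [← h2, pow_one])
  · have himg : Finset.univ.image gQ = E.erase 1 := by
      refine Finset.eq_of_subset_of_card_le (fun w hw => ?_) ?_
      · obtain ⟨a, -, rfl⟩ := Finset.mem_image.mp hw; exact hgE a
      · rw [Finset.card_image_of_injective _ hgQ, Finset.card_erase_of_mem hE1, hEcard, hcard4,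
          Finset.card_univ, Fintype.card_prod, Fintype.card_fin, Fintype.card_fin, hp3]
    have h1 : (⟨v, hv⟩ : (Q : Subgroup G)) ∈ Finset.univ.image gQ := by
      rw [himg, Finset.mem_erase]
      exact ⟨fun hc => hv1 (congrArg Subtype.val hc), hEuniv ▸ Finset.mem_univ _⟩
    obtain ⟨a, -, ha⟩ := Finset.mem_image.mp h1
    refine ⟨b ^ (a.1 : ℕ), ?_⟩
    have h2 : g a = v := congrArg Subtype.val ha
    have h3 : (a.2 : ℕ) = 0 := by have := a.2.2; omega
    simp only [g, h3, zero_add, pow_one] at h2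
    exact h2

/-- No `p'`-element centralises a Sylow `p`-subgroup. -/
theorem Ctx.no_centralizing (P : Sylow p G) {x : G}
    (hxC : x ∈ centralizer ((P : Subgroup G) : Set G)) (hx : ¬ p ∣ orderOf x) (hx1 : x ≠ 1) :
    False := by
  classical
  have hne : orderOf x ≠ 1 := fun hc => hx1 (orderOf_eq_one_iff.mp hc)
  obtain ⟨q, hq, hqd⟩ := Nat.exists_prime_and_dvd hne
  haveI := Fact.mk hq
  obtain ⟨m, hm⟩ := hqd
  have hm0 : m ≠ 0 := fun hc => (orderOf_pos x).ne' (by rw [hm, hc, mul_zero])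
  have hqp : q ≠ p := fun hc => hx (hc ▸ ⟨m, hm⟩)
  set y := x ^ m
  have hyo : orderOf y = q := by
    rw [orderOf_pow' x hm0, hm, Nat.gcd_mul_left_left,
      Nat.mul_div_cancel _ (Nat.pos_of_ne_zero hm0)]
  obtain ⟨Q, hQ⟩ := (isPGroup_zpowers (G := G) (p := q) (k := 1) (a := y)
    (by rw [hyo, pow_one])).exists_le_sylow
  obtain ⟨rfl, hp3, -, -, -, -, -⟩ :=
    h.sylow_structure P Q hyo hqp (pow_mem hxC m) (hQ (mem_zpowers y))
  subst hp3
  haveI : Fact (Nat.Prime 2) := inferInstance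
  have h32 : ∀ {t : G}, orderOf t = 2 → ¬ 3 ∣ orderOf t := fun ht => by rw [ht]; decide
  have hconjo : ∀ g t : G, orderOf (g * t * g⁻¹) = orderOf t := fun g t =>
    orderOf_injective (MulAut.conj g).toMonoidHom (MulAut.conj g).injective t
  have hconjC : ∀ (g t : G) (R : Sylow 3 G), t ∈ centralizer ((R : Subgroup G) : Set G) →
      g * t * g⁻¹ ∈ centralizer (((g • R : Sylow 3 G) : Subgroup G) : Set G) := by
    intro g t R ht
    rw [mem_centralizer_iff] at ht ⊢
    intro c hc
    rw [Sylow.coe_subgroup_smul] at hc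
    obtain ⟨w, hw, rfl⟩ := hc
    show g * w * g⁻¹ * (g * t * g⁻¹) = g * t * g⁻¹ * (g * w * g⁻¹)
    calc g * w * g⁻¹ * (g * t * g⁻¹) = g * (w * t) * g⁻¹ := by group
      _ = g * (t * w) * g⁻¹ := by rw [ht w hw]
      _ = g * t * g⁻¹ * (g * w * g⁻¹) := by group
  -- every involution centralises some Sylow 3-subgroup
  have hI1 : ∀ t : G, orderOf t = 2 →
      ∃ R : Sylow 3 G, t ∈ centralizer ((R : Subgroup G) : Set G) := by
    intro t ht
    obtain ⟨Q', hQ'⟩ := (isPGroup_zpowers (G := G) (p := 2) (k := 1) (a := t)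
      (by rw [ht, pow_one])).exists_le_sylow
    obtain ⟨g, hg⟩ := MulAction.exists_smul_eq G Q Q'
    have htQ : t ∈ ((g • Q : Sylow 2 G) : Subgroup G) := hg ▸ hQ' (mem_zpowers t)
    rw [Sylow.coe_subgroup_smul] at htQ
    obtain ⟨w, hw, hwt⟩ := htQ
    have hwt' : g * w * g⁻¹ = t := hwt
    have hw1 : w ≠ 1 := fun hc => by
      rw [hc, mul_one, mul_inv_cancel] at hwt'
      rw [← hwt', orderOf_one] at ht; omega
    obtain ⟨g', hg'⟩ := (h.sylow_structure P Q hyo hqp (pow_mem hxC m)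
      (hQ (mem_zpowers y))).2.2.2.2.2.1 w hw hw1
    refine ⟨(g * g') • P, ?_⟩
    have h1 := hconjC (g * g') y P (pow_mem hxC m)
    have h2 : g * g' * y * (g * g')⁻¹ = t := by rw [← hwt', ← hg']; group
    rwa [h2] at h1
  -- and exactly one involution centralises a given one
  have hI2e : ∀ R : Sylow 3 G,
      ∃ w : G, orderOf w = 2 ∧ w ∈ centralizer ((R : Subgroup G) : Set G) := by
    intro R
    obtain ⟨g, hg⟩ := MulAction.exists_smul_eq G P R
    exact ⟨g * y * g⁻¹, (hconjo g y).trans hyo, hg ▸ hconjC g y P (pow_mem hxC m)⟩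
  have hpair : ∀ s t : G, orderOf s = 2 → orderOf t = 2 → Commute s t →
      ∃ Q' : Sylow 2 G, s ∈ (Q' : Subgroup G) ∧ t ∈ (Q' : Subgroup G) := by
    intro s t hs2 ht2 hst
    have hsN : zpowers s ≤ normalizer ((zpowers t : Subgroup G) : Set G) := by
      rw [zpowers_le]
      refine Subgroup.mem_normalizer_iff.mpr fun c => ?_
      constructor
      · intro hc
        obtain ⟨i, rfl⟩ := mem_zpowers_iff.mp hc
        rw [comm_iff.mpr (hst.zpow_right i)]; exact zpow_mem (mem_zpowers t) i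
      · intro hc
        obtain ⟨i, hi⟩ := mem_zpowers_iff.mp hc
        have : c = t ^ i := by
          calc c = s⁻¹ * (s * c * s⁻¹) * s := by group
            _ = s⁻¹ * (t ^ i * s) := by rw [← hi, mul_assoc]
            _ = t ^ i := by rw [← (hst.zpow_right i).eq, inv_mul_cancel_left]
        rw [this]; exact zpow_mem (mem_zpowers t) i
    obtain ⟨Q', hQ'⟩ := ((isPGroup_zpowers (G := G) (p := 2) (k := 1) (a := s)
      (by rw [hs2, pow_one])).to_sup_of_normal_right'
      (isPGroup_zpowers (G := G) (p := 2) (k := 1) (a := t) (by rw [ht2, pow_one]))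
      hsN).exists_le_sylow
    exact ⟨Q', hQ' (le_sup_left (b := zpowers t) (mem_zpowers s)),
      hQ' (le_sup_right (a := zpowers s) (mem_zpowers t))⟩
  have hne1 : ∀ {t : G}, orderOf t = 2 → t ≠ 1 := fun ht hc => by
    rw [hc, orderOf_one] at ht; omega
  have hI2 : ∀ (R : Sylow 3 G) (w w' : G), orderOf w = 2 → orderOf w' = 2 →
      w ∈ centralizer ((R : Subgroup G) : Set G) → w' ∈ centralizer ((R : Subgroup G) : Set G) →
      w' = w := by
    intro R w w' hw hw' hwC hwC'
    have hN : w' ∈ normalizer ((R : Subgroup G) : Set G) := by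
      rw [← h.centralizer_eq R hwC' (h32 hw') (hne1 hw')]
      exact mem_centralizer_singleton_iff.mpr rfl
    obtain ⟨Q', h1, h2⟩ := hpair w w' hw hw' ((h.key' R hwC (h32 hw)).1 _ hN (h32 hw')).symm
    obtain ⟨-, -, -, -, hC, -, -⟩ := h.sylow_structure R Q' hw (by decide) hwC h1
    exact (hC w' h2 hwC').resolve_left (hne1 hw')
  let V := {t : G // orderOf t = 2}
  let r : V → V → Prop := fun s t => s.1 ≠ t.1 ∧ Commute s.1 t.1
  set d := Nat.card {w : V // r ⟨y, hyo⟩ w} with hd
  have hI3 : ∀ (t : V), ∃ g : G, g * y * g⁻¹ = t.1 := by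
    intro t
    obtain ⟨R, hR⟩ := hI1 t.1 t.2
    obtain ⟨g, hg⟩ := MulAction.exists_smul_eq G P R
    exact ⟨g, hI2 R t.1 _ t.2 ((hconjo g y).trans hyo) hR (hg ▸ hconjC g y P (pow_mem hxC m))⟩
  have hreg : ∀ t : V, Nat.card {w : V // r t w} = d := by
    intro t
    obtain ⟨g, hg⟩ := hI3 t
    let e : V ≃ V := (MulAut.conj g).toEquiv.subtypeEquiv fun v => by
      rw [show (MulAut.conj g).toEquiv v = (MulAut.conj g).toMonoidHom v from rfl,
        orderOf_injective _ (MulAut.conj g).injective]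
    refine (Nat.card_congr (e.subtypeEquiv fun v => ?_)).symm
    show (y ≠ v.1 ∧ Commute y v.1) ↔ (t.1 ≠ g * v.1 * g⁻¹ ∧ Commute t.1 (g * v.1 * g⁻¹))
    rw [← hg]
    refine and_congr (not_congr ⟨fun hh => by rw [hh], fun hh =>
      mul_left_cancel (mul_right_cancel hh)⟩) ⟨fun hh => ?_, fun hh => ?_⟩
    · exact Commute.map hh (MulAut.conj g).toMonoidHom
    · refine mul_left_cancel (a := g) (mul_right_cancel (b := g⁻¹) ?_)
      calc g * (y * v.1) * g⁻¹ = (g * y * g⁻¹) * (g * v.1 * g⁻¹) := by group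
        _ = (g * v.1 * g⁻¹) * (g * y * g⁻¹) := hh
        _ = g * (v.1 * y) * g⁻¹ := by group
  have hd3 : 3 ≤ d := by
    haveI := h.hyp.cyc _ P.isPGroup'
    obtain ⟨-, -, hexp, h4, hC, -, hQN⟩ :=
      h.sylow_structure P Q hyo hqp (pow_mem hxC m) (hQ (mem_zpowers y))
    obtain ⟨v, hv, hvC⟩ : ∃ v ∈ (Q : Subgroup G), v ∉ centralizer ((P : Subgroup G) : Set G) := by
      by_contra hall
      push Not at hall
      have hsub : ((Q : Subgroup G) : Set G) ⊆ {1, y} := fun v hv => by
        rcases hC v hv (hall v hv) with h1 | h1 <;> simp [h1]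
      have h5 := (Set.ncard_le_ncard hsub (Set.toFinite _)).trans (Set.ncard_insert_le _ _)
      rw [← Nat.card_coe_set_eq, Set.ncard_singleton] at h5
      change Nat.card (Q : Subgroup G) ≤ _ at h5
      omega
    have hv3 : ¬ 3 ∣ orderOf v := fun hd' => by
      have := Nat.le_of_dvd (by norm_num) (hd'.trans (orderOf_dvd_of_pow_eq_one
        (show v ^ 2 = 1 by rw [sq]; exact hexp v hv)))
      omega
    have hinv : ∀ u ∈ (P : Subgroup G), v * u * v⁻¹ * u = 1 := by
      intro u hu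
      by_contra hne
      refine hvC (mem_centralizer_of_fix P.isPGroup' (hQN hv) hv3
        (mul_mem (conj_mem (hQN hv) hu) hu) hne (comm_iff.mp ?_))
      rw [h.mul_comm_of_mem P (conj_mem (hQN hv) hu) hu]
      calc v * (u * (v * u * v⁻¹)) * v⁻¹ = (v * u * v⁻¹) * ((v * v) * u * (v * v)⁻¹) := by group
        _ = u * (v * u * v⁻¹) := by
          rw [hexp v hv, one_mul, inv_one, mul_one, h.mul_comm_of_mem P (conj_mem (hQN hv) hu) hu]
    have hvi : v⁻¹ = v := inv_eq_of_mul_eq_one_right (hexp v hv)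
    have ho : ∀ u : (P : Subgroup G), orderOf (v * u.1) = 2 := fun u => orderOf_eq_prime (by
      rw [sq]
      calc v * u.1 * (v * u.1) = v * u.1 * v⁻¹ * u.1 := by rw [hvi]; group
        _ = 1 := hinv _ u.2) fun hc => hvC (by
        rw [eq_inv_of_mul_eq_one_left hc]
        exact inv_mem (mem_centralizer_iff.mpr fun c hc => h.mul_comm_of_mem P hc u.2))
    let f : ↥(P : Subgroup G) → {w : V // r ⟨y, hyo⟩ w} := fun u =>
      ⟨⟨v * u.1, ho u⟩, fun hc => hvC (by
        have h1 : v = y * u.1⁻¹ := by rw [show y = v * u.1 from hc, mul_inv_cancel_right]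
        rw [h1]
        exact mul_mem (pow_mem hxC m)
          (inv_mem (mem_centralizer_iff.mpr fun c hc => h.mul_comm_of_mem P hc u.2))), by
        have h1 : v * u.1 ∈ centralizer ({y} : Set G) := by
          rw [h.centralizer_eq P (pow_mem hxC m) (h32 hyo) (hne1 hyo)]
          exact mul_mem (hQN hv) (le_normalizer u.2)
        exact (mem_centralizer_singleton_iff.mp h1).symm⟩
    have hf : Function.Injective f := fun a c hac => Subtype.ext (mul_left_cancel
      (congrArg (fun w : {w : V // r ⟨y, hyo⟩ w} => w.1.1) hac : v * a.1 = v * c.1))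
    refine le_trans ?_ (Nat.card_le_card_of_injective f hf)
    obtain ⟨j, hj⟩ := IsPGroup.iff_card.mp P.isPGroup'
    rw [hj]
    exact Nat.le_self_pow (fun hc => h.sylow_ne_bot P
      (Subgroup.card_eq_one.mp (by rw [hj, hc, pow_zero]))) 3
  refine (Friendship.isEmpty_of_regular r (fun a c hac => ⟨hac.1.symm, hac.2.symm⟩)
    (fun a ha => ha.1 rfl) d hd3 hreg ?_).false ⟨y, hyo⟩
  intro s t hst
  have hst' : s.1 ≠ t.1 := fun hc => hst (Subtype.ext hc)
  have hss := Involution.mul_self_of_orderOf s.2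
  have htt := Involution.mul_self_of_orderOf t.2
  have hsi : s.1⁻¹ = s.1 := inv_eq_of_mul_eq_one_right hss
  have hti : t.1⁻¹ = t.1 := inv_eq_of_mul_eq_one_right htt
  by_cases hc : Commute s.1 t.1
  · have ho : orderOf (s.1 * t.1) = 2 := orderOf_eq_prime
      (by rw [sq]; calc s.1 * t.1 * (s.1 * t.1) = s.1 * (t.1 * s.1) * t.1 := by group
            _ = (s.1 * s.1) * (t.1 * t.1) := by rw [← hc.eq]; group
            _ = 1 := by rw [hss, htt, one_mul])
      (fun h1 => hst' (by rw [eq_inv_of_mul_eq_one_left h1, hti]))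
    refine ⟨⟨s.1 * t.1, ho⟩, ⟨⟨fun h1 => hne1 t.2 (left_eq_mul.mp h1),
      (Commute.refl s.1).mul_right hc⟩, ⟨fun h1 => hne1 s.2 (right_eq_mul.mp h1),
      hc.symm.mul_right (Commute.refl t.1)⟩⟩, ?_⟩
    rintro ⟨u, hu⟩ ⟨⟨hsu, hcsu⟩, ⟨htu, hctu⟩⟩
    obtain ⟨Q', hsQ, htQ⟩ := hpair s.1 t.1 s.2 t.2 hc
    obtain ⟨R, hR⟩ := hI1 s.1 s.2
    obtain ⟨-, -, -, h4, -, -, -⟩ := h.sylow_structure R Q' s.2 (by decide) hR hsQ
    have hset : ((Q' : Subgroup G) : Set G) = {1, s.1, t.1, s.1 * t.1} := by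
      refine (Set.eq_of_subset_of_ncard_le ?_ ?_ (Set.toFinite _)).symm
      · intro c hc
        rcases hc with rfl | rfl | rfl | rfl
        · exact one_mem _
        · exact hsQ
        · exact htQ
        · exact mul_mem hsQ htQ
      · have h5 : ({1, s.1, t.1, s.1 * t.1} : Set G).ncard = 4 := by
          have e1 : (1 : G) ≠ s.1 := (hne1 s.2).symm
          have e2 : (1 : G) ≠ t.1 := (hne1 t.2).symm
          have e3 : (1 : G) ≠ s.1 * t.1 := (hne1 ho).symm
          have e4 : s.1 ≠ s.1 * t.1 := fun h1 => hne1 t.2 (left_eq_mul.mp h1)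
          have e5 : t.1 ≠ s.1 * t.1 := fun h1 => hne1 s.2 (right_eq_mul.mp h1)
          rw [Set.ncard_insert_of_notMem (by simp [e1, e2, e3]),
            Set.ncard_insert_of_notMem (by simp [hst', e4]),
            Set.ncard_pair e5]
        rw [h5, ← Nat.card_coe_set_eq]; exact h4.le
    obtain ⟨Q'', huQ, hsQ''⟩ := hpair u s.1 hu s.2 hcsu.symm
    have huN : zpowers u ≤ normalizer (((Q' : Subgroup G) : Set G)) := by
      rw [zpowers_le]
      have hcQ : ∀ c ∈ (Q' : Subgroup G), Commute u c := by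
        intro c hc
        have : c ∈ ({1, s.1, t.1, s.1 * t.1} : Set G) := hset ▸ hc
        rcases this with rfl | rfl | rfl | rfl
        · exact Commute.one_right u
        · exact hcsu.symm
        · exact hctu.symm
        · exact hcsu.symm.mul_right hctu.symm
      refine Subgroup.mem_normalizer_iff.mpr fun c => ⟨fun hc => ?_, fun hc => ?_⟩
      · rw [comm_iff.mpr (hcQ c hc)]; exact hc
      · have h6 := hcQ _ hc
        have h7 : u * c * u⁻¹ = c := by
          calc u * c * u⁻¹ = u⁻¹ * (u * (u * c * u⁻¹)) := by group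
            _ = u⁻¹ * ((u * c * u⁻¹) * u) := by rw [h6.eq]
            _ = c := by group
        exact h7 ▸ hc
    have h8 := ((isPGroup_zpowers (G := G) (p := 2) (k := 1) (a := u)
      (by rw [hu, pow_one])).inf_normalizer_sylow Q').le ⟨mem_zpowers u, huN (mem_zpowers u)⟩
    have h9 : u ∈ ({1, s.1, t.1, s.1 * t.1} : Set G) := hset ▸ h8.2
    rcases h9 with h9 | h9 | h9 | h9
    · exact absurd h9 (hne1 hu)
    · exact absurd h9.symm hsu
    · exact absurd h9.symm htu
    · exact Subtype.ext h9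
  · set u := s.1 * t.1 with hudef
    have hconj : s.1 * u * s.1⁻¹ = u⁻¹ := by
      rw [hudef, mul_inv_rev, hsi, hti, ← mul_assoc, hss, one_mul]
    have hconj' : t.1 * u * t.1⁻¹ = u⁻¹ := by
      rw [hudef, mul_inv_rev, hsi, hti, mul_assoc, mul_assoc, htt, mul_one]
    have hu3 : 3 ∣ orderOf u := by
      by_contra hu3
      have hc' : ∀ i : ℤ, s.1 * u ^ i * s.1⁻¹ = u ^ (-i) := fun i => by
        rw [← conj_zpow, hconj, inv_zpow, zpow_neg]
      have hsN : s.1 ∈ normalizer ((zpowers u : Subgroup G) : Set G) := by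
        refine Subgroup.mem_normalizer_iff.mpr fun c => ⟨fun hc => ?_, fun hc => ?_⟩
        · obtain ⟨i, rfl⟩ := mem_zpowers_iff.mp hc
          rw [hc']; exact zpow_mem (mem_zpowers _) _
        · obtain ⟨i, hi⟩ := mem_zpowers_iff.mp hc
          have h1 : c = s.1 * u ^ i * s.1⁻¹ := by
            rw [hi, hsi, show s.1 * (s.1 * c * s.1) * s.1 = (s.1 * s.1) * c * (s.1 * s.1) by group,
              hss, one_mul, mul_one]
          rw [h1, hc']; exact zpow_mem (mem_zpowers _) _
      have h3 := h.hyp.comm_of_normalized (by rwa [Nat.card_zpowers]) hsN (h32 s.2)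
        (mem_zpowers u)
      refine hc ?_
      show s.1 * t.1 = t.1 * s.1
      have h4 : u = u⁻¹ := by rw [← hconj, h3, mul_inv_cancel_right]
      rw [hudef, mul_inv_rev, hsi, hti] at h4
      exact h4
    obtain ⟨k, hk⟩ := hu3
    set z := u ^ k
    have hk0 : k ≠ 0 := fun h1 => (orderOf_pos u).ne' (by rw [hk, h1, mul_zero])
    have hzo : orderOf z = 3 := by
      rw [orderOf_pow' u hk0, hk, Nat.gcd_mul_left_left,
        Nat.mul_div_cancel _ (Nat.pos_of_ne_zero hk0)]
    have hz1 : z ≠ 1 := fun h1 => by rw [h1, orderOf_one] at hzo; omega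
    obtain ⟨R, hR⟩ := (isPGroup_zpowers (G := G) (p := 3) (k := 1) (a := z)
      (by rw [hzo, pow_one])).exists_le_sylow
    have hzR : z ∈ (R : Subgroup G) := hR (mem_zpowers z)
    obtain ⟨w, hw, hwC⟩ := hI2e R
    have hwz : Commute w z := (mem_centralizer_iff.mp hwC z hzR).symm
    have huniq : ∀ v : G, orderOf v = 2 → Commute v z → v = w := fun v hv hvz =>
      hI2 R w v hw hv hwC (h.key R hzR hz1 (h32 hv) hvz).1
    have hfix : ∀ c : G, orderOf c = 2 → c * u * c⁻¹ = u⁻¹ →
        Commute c w ∧ c ≠ w := by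
      intro c hc hcu
      have hcz : c * z * c⁻¹ = z⁻¹ := by rw [← conj_pow, hcu, inv_pow]
      refine ⟨?_, fun h1 => ?_⟩
      · have h1 : Commute (c * w * c⁻¹) z⁻¹ := by
          rw [← hcz]; exact Commute.map hwz (MulAut.conj c).toMonoidHom
        exact comm_iff.mp
          (huniq _ ((hconjo c w).trans hw) (Commute.inv_right_iff.mp h1))
      · rw [h1, comm_iff.mpr hwz.eq] at hcz
        have h2 : z ^ 2 = 1 := by rw [sq]; nth_rw 2 [hcz]; rw [mul_inv_cancel]
        have h3 := orderOf_dvd_of_pow_eq_one h2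
        rw [hzo] at h3
        norm_num at h3
    refine ⟨⟨w, hw⟩, ⟨⟨(hfix s.1 s.2 hconj).2, (hfix s.1 s.2 hconj).1⟩,
      ⟨(hfix t.1 t.2 hconj').2, (hfix t.1 t.2 hconj').1⟩⟩, ?_⟩
    rintro ⟨v, hv⟩ ⟨⟨-, hsv⟩, ⟨-, htv⟩⟩
    exact Subtype.ext (huniq v hv ((hsv.symm.mul_right htv.symm).pow_right k))

end Cfsg.Agent.H40.CyclicAbelian
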