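import Cfsg.Agent.H40.CyclicAbelian.Counting
import Cfsg.Agent.H40.CyclicAbelian.TwoThree

/-!
A finite group with cyclic Sylow `p`-subgroups whose `p'`-subgroups are all abelian has a
normal `p`-complement or a normal Sylow `p`-subgroup.
-/

set_option autoImplicit false

namespace Cfsg.Agent.H40.CyclicAbelian

open Subgroup

universe u

variable {p : ℕ} [hp : Fact p.Prime]

theorem Ctx.absurd {G : Type u} [Group G] [Finite G] (h : Ctx p G) : False := by
  by_cases hs : Sep p G
  · exact Sep.absurd hs h
  · simp only [Sep, not_forall, not_not] at hs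
    obtain ⟨x, a, hx, hx1, ⟨k, hk⟩, ha1, hxa⟩ := hs
    obtain ⟨P, hP⟩ := (isPGroup_zpowers hk).exists_le_sylow
    exact h.no_centralizing P (h.key P (hP (mem_zpowers a)) ha1 hx hxa).1 hx hx1

theorem concl_of_hyp : ∀ (n : ℕ) (G : Type u) [Group G] [Finite G],
    Nat.card G = n → Hyp p G → Concl p G := by
  intro n
  induction n using Nat.strong_induction_on with
  | _ n IH =>
  intro G _ _ hn hyp
  by_contra hcon
  obtain ⟨hnc, hnn⟩ := not_or.mp hcon
  have hab : ∀ (P : Sylow p G), ∀ a ∈ (P : Subgroup G), ∀ b ∈ (P : Subgroup G),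
      a * b = b * a := by
    intro P a ha b hb
    haveI := hyp.cyc _ P.isPGroup'
    letI := IsCyclic.commGroup (α := (P : Subgroup G))
    exact congrArg Subtype.val (mul_comm (⟨a, ha⟩ : (P : Subgroup G)) ⟨b, hb⟩)
  have hex : ∀ P : Sylow p G, ∃ g ∈ normalizer ((P : Subgroup G) : Set G), ¬ p ∣ orderOf g ∧
      g ∉ centralizer ((P : Subgroup G) : Set G) := by
    intro P
    by_contra hne
    push Not at hne
    exact hnc (hasNormalPComplement_of_burnside P (normalizer_le_centralizer P (hab P) hne))
  have ih : ∀ M : Subgroup G, M ≠ ⊤ → Concl p M := by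
    intro M hM
    refine IH (Nat.card M) ?_ M rfl (hyp.subgroup M)
    rw [← hn]
    exact lt_of_le_of_ne M.card_le_card_group fun hc => hM (Subgroup.eq_top_of_card_eq M hc)
  -- no nontrivial normal `p'`-subgroup
  have hK : ∀ K : Subgroup G, K.Normal → ¬ p ∣ Nat.card K → K = ⊥ := by
    intro K hKn hKp
    by_contra hK1
    haveI := hKn
    have hlt : Nat.card (G ⧸ K) < n := by
      rw [← hn, K.card_eq_card_quotient_mul_card_subgroup]
      exact lt_mul_of_one_lt_right Nat.card_pos
        ((Subgroup.one_lt_card_iff_ne_bot K).mpr hK1)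
    rcases IH _ hlt (G ⧸ K) rfl (hyp.quotient K hKp) with ⟨P0, N, hNn, hcompl⟩ | hn'
    · haveI := hNn
      obtain ⟨j, hj⟩ := IsPGroup.iff_card.mp P0.isPGroup'
      refine hnc (hasNormalPComplement_of_index (N.comap (QuotientGroup.mk' K)) (hNn.comap _) ?_
        (j := j) ?_)
      · rw [card_comap_mk']
        refine not_dvd_mul hKp ?_
        rw [← hcompl.index_eq_card]; exact P0.not_dvd_index
      · rw [Subgroup.index_comap_of_surjective _ (QuotientGroup.mk'_surjective K),
          hcompl.symm.index_eq_card, hj]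
    · apply hnn
      intro P
      haveI := hyp.cyc _ P.isPGroup'
      obtain ⟨g, hgN, hgp, hgC⟩ := hex P
      have hPK : (P : Subgroup G) ≤ centralizer (K : Set G) :=
        le_of_normalized P.isPGroup' hgN hgp hgC _ le_normalizer_of_normal
          (mem_centralizer_iff.mpr fun c hc => (hyp.comm_of_normalized hKp
            (by rw [normalizer_eq_top_iff.mpr hKn]; exact mem_top g) hgp hc).symm)
      have hKN : K ≤ normalizer ((P : Subgroup G) : Set G) := by
        intro c hc
        rw [Subgroup.mem_normalizer_iff]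
        intro v
        constructor
        · intro hv
          rw [comm_iff.mpr (mem_centralizer_iff.mp (hPK hv) c hc)]; exact hv
        · intro hv
          have h1 := mem_centralizer_iff.mp (hPK hv) c⁻¹ (inv_mem hc)
          have h2 : v = c * v * c⁻¹ := by
            calc v = c⁻¹ * (c * v * c⁻¹) * c := by group
              _ = (c * v * c⁻¹) * c⁻¹ * c := by rw [h1]
              _ = c * v * c⁻¹ := by group
          rw [h2]; exact hv
      set M := ((P : Subgroup G).map (QuotientGroup.mk' K)).comap (QuotientGroup.mk' K)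
      have hMn : M.Normal := by
        have h1 := hn' (P.mapSurjective (QuotientGroup.mk'_surjective K))
        rw [Sylow.coe_mapSurjective] at h1
        exact h1.comap _
      have hMN : M ≤ normalizer ((P : Subgroup G) : Set G) := by
        intro y hy
        obtain ⟨v, hv, hvy⟩ := mem_map.mp (mem_comap.mp hy)
        have h1 : v⁻¹ * y ∈ K := QuotientGroup.eq.mp hvy
        have h2 := mul_mem (le_normalizer hv) (hKN h1)
        rwa [mul_inv_cancel_left] at h2
      refine ⟨fun v hv g => ?_⟩
      have h1 : g * v * g⁻¹ ∈ M := hMn.conj_mem _ (mem_comap.mpr (mem_map_of_mem _ hv)) g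
      obtain ⟨k, hk⟩ := exists_orderOf_eq_pow P.isPGroup' hv
      have h2 : orderOf (g * v * g⁻¹) = p ^ k :=
        (orderOf_injective (MulAut.conj g).toMonoidHom (MulAut.conj g).injective v).trans hk
      exact (((isPGroup_zpowers h2).inf_normalizer_sylow P).le ⟨mem_zpowers _, hMN h1⟩).2
  -- no nontrivial normal `p`-subgroup
  have hR : ∀ R : Subgroup G, R.Normal → IsPGroup p R → R = ⊥ := by
    intro R hRn hRp
    by_contra hR1
    haveI := hRn
    apply hnn
    intro P
    haveI := hyp.cyc _ P.isPGroup'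
    have hRP : R ≤ (P : Subgroup G) := by
      intro v hv
      obtain ⟨P', hP'⟩ := hRp.exists_le_sylow
      obtain ⟨g, rfl⟩ := MulAction.exists_smul_eq G P' P
      rw [Sylow.coe_subgroup_smul]
      exact ⟨g⁻¹ * v * g, hP' (by simpa using hRn.conj_mem _ hv g⁻¹), by
        show g * (g⁻¹ * v * g) * g⁻¹ = v
        group⟩
    set C := centralizer (R : Set G)
    haveI hCn : C.Normal := by
      rw [← normalizer_eq_top_iff, eq_top_iff, ← normalizer_eq_top_iff.mpr hRn]
      exact normalizer_le_normalizer_centralizer R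
    have hPC : (P : Subgroup G) ≤ C := fun v hv =>
      mem_centralizer_iff.mpr fun c hc => hab P c (hRP hc) v hv
    obtain ⟨a, ha, ha1⟩ : ∃ a ∈ R, a ≠ 1 := by
      obtain ⟨a, ha⟩ := (Subgroup.ne_bot_iff_exists_ne_one).mp hR1
      exact ⟨a.1, a.2, fun hc => ha (Subtype.ext hc)⟩
    let P0 : Sylow p C := P.subtype hPC
    have hc : Cfsg.HasNormalPComplement p C := by
      refine hasNormalPComplement_of_burnside P0 (normalizer_le_centralizer P0
        (fun b hb c hc => Subtype.ext (hab P _ hb _ hc)) fun g hg hgo => ?_)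
      have hgN : (g : G) ∈ normalizer ((P : Subgroup G) : Set G) := by
        rw [Subgroup.mem_normalizer_iff] at hg ⊢
        intro b
        refine ⟨fun hb => (hg ⟨b, hPC hb⟩).mp hb, fun hb => ?_⟩
        have hbC : b ∈ C := by
          have h1 := mul_mem (mul_mem (inv_mem g.2) (hPC hb)) g.2
          simpa [mul_assoc] using h1
        exact (hg ⟨b, hbC⟩).mpr hb
      have h1 := mem_centralizer_of_fix P.isPGroup' hgN (by rwa [Subgroup.orderOf_coe]) (hRP ha) ha1
        (mem_centralizer_iff.mp g.2 a ha).symm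
      exact mem_centralizer_iff.mpr fun b hb => Subtype.ext (mem_centralizer_iff.mp h1 b hb)
    obtain ⟨K, hKn, hKp, hmem⟩ := exists_normal_of_complement hc
    have hK1 := hK K hKn hKp
    have hCp : IsPGroup p C := by
      rw [IsPGroup.iff_orderOf]
      intro g
      rw [← Subgroup.orderOf_coe g]
      obtain ⟨k, m, hm, hNm⟩ :=
        Nat.exists_eq_pow_mul_and_not_dvd (orderOf_pos (g : G)).ne' p hp.out.ne_one
      have h2 : orderOf ((g : G) ^ (p ^ k)) = m := by
        rw [orderOf_pow' _ (pow_ne_zero _ hp.out.ne_zero), hNm, Nat.gcd_mul_right_left,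
          Nat.mul_div_cancel_left _ (pow_pos hp.out.pos _)]
      have h3 := hmem _ (pow_mem g.2 (p ^ k)) (h2 ▸ hm)
      rw [hK1, mem_bot] at h3
      rw [h3, orderOf_one] at h2
      exact ⟨k, by rw [hNm, ← h2, mul_one]⟩
    rw [← P.is_maximal' hCp hPC]
    exact hCn
  refine Ctx.absurd (p := p) (G := G) ⟨hyp, hnc, fun T hTn => ?_, ih⟩
  by_cases hT : T = ⊤
  · exact Or.inr hT
  refine Or.inl ?_
  haveI := hTn
  rcases ih T hT with hc | hnorm
  · obtain ⟨K, hKn, hKp, hmem⟩ := exists_normal_of_complement hc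
    have hK1 := hK K hKn hKp
    refine hR T hTn ?_
    rw [IsPGroup.iff_orderOf]
    intro g
    rw [← Subgroup.orderOf_coe g]
    obtain ⟨k, m, hm, hNm⟩ :=
      Nat.exists_eq_pow_mul_and_not_dvd (orderOf_pos (g : G)).ne' p hp.out.ne_one
    have h2 : orderOf ((g : G) ^ (p ^ k)) = m := by
      rw [orderOf_pow' _ (pow_ne_zero _ hp.out.ne_zero), hNm, Nat.gcd_mul_right_left,
        Nat.mul_div_cancel_left _ (pow_pos hp.out.pos _)]
    have h3 := hmem _ (pow_mem g.2 (p ^ k)) (h2 ▸ hm)
    rw [hK1, mem_bot] at h3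
    rw [h3, orderOf_one] at h2
    exact ⟨k, by rw [hNm, ← h2, mul_one]⟩
  · obtain ⟨P0⟩ := (inferInstance : Nonempty (Sylow p T))
    haveI := hnorm P0
    haveI : (P0 : Subgroup T).Characteristic := Sylow.characteristic_of_normal P0 (hnorm P0)
    have h1 := hR ((P0 : Subgroup T).map T.subtype) inferInstance (P0.isPGroup'.map _)
    refine hK T hTn ?_
    have h2 : Nat.card (P0 : Subgroup T) = 1 := by
      rw [← card_map_of_injective T.subtype_injective, h1, Subgroup.card_bot]
    intro hd
    have h3 := (P0 : Subgroup T).card_mul_index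
    rw [h2, one_mul] at h3
    exact P0.not_dvd_index (h3 ▸ hd)

end Cfsg.Agent.H40.CyclicAbelian
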